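import Cfsg.Agent.BabyM.WordsInst
import Cfsg.Agent.BabyM.TransCover
import Cfsg.Agent.BMx.FastV
import Cfsg.Agent.BM.StageWRel_m3
import Cfsg.Prelude.Def_Spor_Fi23
import Mathlib
import Cfsg.Agent.H160.PSLTwo
import Cfsg.Agent.TwoFusion.SLTwoFacts
import Cfsg.Agent.H940.EngData
import Cfsg.Agent.Lib.ElemAbGL
import Cfsg.Prelude.Def_CaseTheorems
import Cfsg.Agent.FastGrp
import Cfsg.Agent.Prune
set_option linter.all false

section
prune_inst 0x7ffefcfbeff8bddfdfff7e7ffffddffc39d4dfffefdffb4bffe0ebffbfff230e3be5fbaf1de058ff5ed6e03e30b87813fb7eeeffef6fdc7ffffdfff45ffbee1fe5f7bd0871d79c340fbe0fff6bf07fce7f3fffffffffffffffffffffffffffbeffbfffffffff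

-- part: H995/LB/Data
section
prune_inst 0x10304100742202000818000022003c62b2000102004b0001f14004000dcf1c41a0450e21fa700a1291fc1cf4787ec04811100109023000002000ba00411e01a0842f78e2863cbf041f000940f803180c00000000000000000000000000041004000000000
set_option linter.all false

/-!
# `PSL(2, 23)` in the Baby Monster: words and vectors (helper995, for S5524)
-/

set_option autoImplicit false

namespace Cfsg.Agent.H995.LB

open Cfsg.Agent.Monster.VecEngine Cfsg.Agent.Monster.VecSpace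
open Cfsg.Agent.BabyM.Conc

/-- The element of order `23`. -/
def wx : List Ltr := [.h, .y2, .xi, .p9, .y9, .xi, .hi, .p6, .y9, .p6, .y1, .hi, .p7, .X1, .X3, .X4, .X5, .X10, .Z1, .Z2, .Z3, .Z4, .Z5, .Z6, .Z8, .Z9, .z]

/-- Its inverse. -/
def wxi : List Ltr := [.z, .Z9, .Z8, .Z6, .Z5, .Z4, .Z3, .Z2, .Z1, .X10, .X5, .X4, .X3, .X1, .p4, .h, .y1, .p5, .y9, .p5, .h, .xii, .y9, .p2, .xii, .y2, .hi]

/-- An involution inverting the element `p` of order `11`. -/
def wd : List Ltr := [.h, .p, .h, .p, .h, .p2, .h, .p3, .h, .p6, .h, .p3, .h, .Z1, .Z2, .Z4, .Z5, .Z7, .Z8]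

/-- A transposition commuting with `p`. -/
def wT : List Ltr := [.Z7, .Z6, .Z1, .Z0, .X9, .X7, .X5, .X2, .X0, .y2, .xii, .p2, .xii, .p4, .taui, .xii, .p10, .xii, .p10, .taui, .xii, .p, .taui, .xii, .p, .Z0, .Z2, .Z4, .Z5, .Z6, .p10, .xi, .tau, .p10, .xi, .tau, .p, .xi, .p, .xi, .tau, .p7, .xi, .p9, .xi, .y2, .X0, .X2, .X5, .X7, .X9, .Z0, .Z1, .Z6, .Z7]

/-- The generators of the symmetric group of degree `5` commuting with `p`. -/
def sg : ℕ → List Ltr
  | 0 => [.X10]
  | 1 => [.Z10]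
  | 2 => [.tau]
  | 3 => [.taui]
  | 4 => [.z]
  | _ => wT

/-- A word in these generators. -/
def sw (l : List ℕ) : List Ltr := l.flatMap sg

/-- The elements of square `1`. -/
def Sw : Fin 26 → List ℕ := ![[],
  [0],
  [1],
  [4],
  [0, 2],
  [0, 3],
  [0, 4],
  [1, 4],
  [0, 1, 2],
  [0, 3, 1],
  [5],
  [0, 5],
  [0, 2, 5],
  [0, 3, 5],
  [1, 5, 1],
  [4, 5, 4],
  [0, 4, 5, 4],
  [1, 0, 5, 1],
  [0, 2, 1, 5, 4],
  [0, 2, 4, 5, 1],
  [0, 3, 1, 5, 1],
  [0, 4, 3, 5, 4],
  [0, 1, 5, 1, 0],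
  [0, 1, 5, 1, 2],
  [0, 1, 5, 1, 4],
  [0, 1, 5, 4, 3]]

/-- The values of the images of the vector of the base. -/
def Sc : Fin 26 → List ℤ := ![[384, 0, 2816, 128, 0, 0],
  [-384, 0, -2816, 0, 128, 0],
  [384, 0, -2816, 128, 0, 0],
  [384, 0, 2816, -128, 0, 0],
  [7232, 128, 0, 0, 0, 0],
  [-6848, 0, 0, 128, 0, 2816],
  [-384, 0, -2816, 0, -128, 0],
  [384, 0, -2816, -128, 0, 0],
  [7232, -128, 0, 0, 0, 0],
  [-6848, 0, 0, 128, 0, -2816],
  [120, 3498, -568, 2686, 2442, -256],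
  [-120, 3498, 568, 2442, 2686, -296],
  [-1000, 2686, 296, 3498, 2442, 256],
  [1120, 2442, -256, 2686, 3498, -568],
  [-56, -3498, -312, 2686, -2442, 432],
  [104, 3518, -568, -2538, -2462, 256],
  [-104, 3518, 568, -2462, -2538, 296],
  [56, -3498, 312, 2442, -2686, 120],
  [-1000, 2538, 296, -3518, -2462, -256],
  [-1088, -2686, -120, 3498, -2442, -432],
  [1032, -2442, 432, 2686, -3498, -312],
  [1104, 2462, -256, -2538, -3518, 568],
  [-72, -3518, -312, -2538, 2462, -432],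
  [-1088, -2538, -120, -3518, 2462, 432],
  [72, -3518, 312, -2462, 2538, -120],
  [1016, -2462, 432, -2538, 3518, 312]]

/-- The lanes of the values. -/
def code (y : Pl) : List ℤ := [val y 1313, val y 2048, val y 2162, val y 4096, val y 5120, val y 5234]

/-- The lanes of the main test. -/
def Sl : Fin 26 → List (Fin 11 × ℕ) := ![[(0, 1347), (1, 1347), (2, 1345), (3, 1346), (4, 1345), (5, 1346), (6, 1345), (7, 1346), (8, 1347), (9, 1345), (10, 1346)],
  [(0, 1347), (1, 1347), (2, 1345), (3, 1346), (4, 1345), (5, 1346), (6, 1345), (7, 1346), (8, 1347), (9, 1345), (10, 1346)],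
  [(0, 1347), (1, 1347), (2, 1345), (3, 1346), (4, 1345), (5, 1346), (6, 1345), (7, 1346), (8, 1347), (9, 1345), (10, 1346)],
  [(0, 1347), (1, 1347), (2, 1345), (3, 1346), (4, 1345), (5, 1346), (6, 1345), (7, 1346), (8, 1347), (9, 1345), (10, 1346)],
  [(0, 42), (1, 32), (2, 16), (3, 42), (4, 42), (5, 42), (6, 42), (7, 42), (8, 42), (9, 42), (10, 42)],
  [(0, 42), (1, 32), (2, 17), (3, 42), (4, 42), (5, 42), (6, 42), (7, 42), (8, 42), (9, 42), (10, 42)],
  [(0, 1347), (1, 1347), (2, 1345), (3, 1346), (4, 1345), (5, 1346), (6, 1345), (7, 1346), (8, 1347), (9, 1345), (10, 1346)],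
  [(0, 1347), (1, 1347), (2, 1345), (3, 1346), (4, 1345), (5, 1346), (6, 1345), (7, 1346), (8, 1347), (9, 1345), (10, 1346)],
  [(0, 42), (1, 32), (2, 16), (3, 42), (4, 42), (5, 42), (6, 42), (7, 42), (8, 42), (9, 42), (10, 42)],
  [(0, 42), (1, 32), (2, 17), (3, 42), (4, 42), (5, 42), (6, 42), (7, 42), (8, 42), (9, 42), (10, 42)],
  [(0, 0), (1, 0), (2, 0), (3, 1), (4, 0), (5, 0), (6, 0), (7, 0), (8, 0), (9, 0), (10, 0)],
  [(0, 0), (1, 0), (2, 0), (3, 1), (4, 0), (5, 0), (6, 0), (7, 0), (8, 0), (9, 0), (10, 0)],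
  [(0, 0), (1, 0), (2, 0), (3, 0), (4, 0), (5, 0), (6, 1), (7, 0), (8, 0), (9, 0), (10, 0)],
  [(0, 1), (1, 0), (2, 0), (3, 0), (4, 0), (5, 0), (6, 0), (7, 1), (8, 0), (9, 0), (10, 0)],
  [(0, 1), (1, 4), (2, 0), (3, 0), (4, 0), (5, 0), (6, 3), (7, 0), (8, 2), (9, 0), (10, 0)],
  [(0, 0), (1, 0), (2, 0), (3, 1), (4, 0), (5, 0), (6, 0), (7, 0), (8, 0), (9, 0), (10, 0)],
  [(0, 0), (1, 0), (2, 0), (3, 1), (4, 0), (5, 0), (6, 0), (7, 0), (8, 0), (9, 0), (10, 0)],
  [(0, 1), (1, 3), (2, 0), (3, 0), (4, 0), (5, 0), (6, 3), (7, 0), (8, 2), (9, 0), (10, 0)],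
  [(0, 0), (1, 0), (2, 0), (3, 0), (4, 0), (5, 0), (6, 1), (7, 0), (8, 0), (9, 0), (10, 0)],
  [(0, 1), (1, 0), (2, 0), (3, 0), (4, 1), (5, 1), (6, 0), (7, 0), (8, 1), (9, 0), (10, 0)],
  [(1, 1), (2, 0), (3, 0), (4, 0), (5, 0), (6, 0), (7, 0), (8, 1), (9, 0), (10, 0)],
  [(0, 1), (1, 0), (2, 0), (3, 0), (4, 0), (5, 0), (6, 0), (7, 1), (8, 0), (9, 0), (10, 0)],
  [(0, 1), (1, 4), (2, 0), (3, 0), (4, 0), (5, 0), (6, 3), (7, 0), (8, 2), (9, 0), (10, 0)],
  [(0, 1), (1, 0), (2, 0), (3, 0), (4, 1), (5, 1), (6, 0), (7, 0), (8, 1), (9, 0), (10, 0)],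
  [(0, 1), (1, 3), (2, 0), (3, 0), (4, 0), (5, 0), (6, 3), (7, 0), (8, 2), (9, 0), (10, 0)],
  [(1, 1), (2, 0), (3, 0), (4, 0), (5, 0), (6, 0), (7, 0), (8, 1), (9, 0), (10, 0)]]

/-- The lanes of the normaliser test. -/
def Sn : Fin 26 → ℕ := ![0, 0, 19, 0, 1, 1, 0, 19, 1, 1, 0, 0, 0, 0, 0, 0, 0, 0, 0, 0, 0, 0, 0, 0, 0, 0]

/-- The powers of `p`. -/
def pj : Fin 11 → List Ltr := ![[], [.p], [.p2], [.p3], [.p4], [.p5], [.p6], [.p7], [.p8], [.p9], [.p10]]

/-- A vector fixed by `x` and `p`. -/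
def vf : Pl := .cons 0x0 (.cons 0x0 (.cons 0x0 (.cons 0x0 (.cons 0x0 (.cons 0x0 (.cons 0x0 (.cons 0x5335f000000000000000000000000000000000000000000000000000000000000000000000000000000000000000000000000000000000000000000000000000000000000000000000000000000000000000000000000000000000000000000000000000000000000000000000000000000000000000000000000000000000000000000000000000000000000000000000000000000000000000000000000000000000000000000000000 (.sgn 0x0))))))))

/-- A vector fixed by `x`. -/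
def vg : Pl := .cons 0x0 (.cons 0x0 (.cons 0x0 (.cons 0x0 (.cons 0x0 (.cons 0x0 (.cons 0x0 (.cons 0x10000000000000000000001000000000000002000000000000000000000000002000000000000004000000000000000000000000004000000000000000010000400000000000000020000000000000000400000000000000000000000000000000000400000000000400000000000000000000000000000000000000000000000000000000000000000000000000000000000000000000000000000000000000000000000000000000000000000000000000000000000000000000000000000000000000000000000000000000000000000000000000000000000000040000000000000000000010000000000000000400000000020000000000000000000000000000000000000000100000000000000000000000000008000000000000000000000000000000200000000000000000000000000000000000000000000000000000000000000000000000000040000000000000000000000000000000000000000000000000000000000100080001 (.sgn 0x4000000000000000010000000000000000000020000000000000000400000000000000000000000000000000000400000000000000000000000000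000000000000000000000000000000000000000000000000000000000000000000000000000000000000000000000000000000000000000000000000000000000000000000000000000000000000000000000000000000000000000000000000000000000000000000000000000000000000000000000010000000000000000400000000020000000000000000000000000000000000000000100000000000000000000000000000000000000000000000000000000000200000000000000000000000000000000000000000000000000000000000000000000000000040000000000000000000000000000000000000000000000000000000000100000000))))))))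

end Cfsg.Agent.H995.LB
end

-- part: H995/LB/ChkDef
section
set_option linter.all false

/-!
# `PSL(2, 23)` in the Baby Monster: the checks (helper995, for S5524)
-/

set_option autoImplicit false

namespace Cfsg.Agent.H995.LB

open Cfsg.Agent.Monster.VecEngine Cfsg.Agent.Monster.VecSpace
open Cfsg.Agent.BabyM.Conc Cfsg.Agent.BabyM.WordsInst

/-- Two words agree on the vector of the base. -/
noncomputable def eqc (v w : List Ltr) : Bool := check (v.map Ltr.prog) vB (w.map Ltr.prog) vB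

/-- The values of the image of the vector of the base. -/
noncomputable def k5 (s : List ℕ) (c : List ℤ) : Bool :=
  runL ((sw s).map Ltr.prog) vB fun y => decide (code y = c)

/-- The main test. -/
noncomputable def k6 (s : List ℕ) (L : List (Fin 11 × ℕ)) : Bool :=
  runL ((sw s ++ wd).map Ltr.prog) vf fun w => runL (wx.map Ltr.prog) w fun u =>
    runL ((wxi ++ sw s ++ wd).map Ltr.prog) w fun v =>
      L.all fun q => and (U.testBit q.2) (runL ((pj q.1).map Ltr.prog) v fun y => !decide (val y q.2 = val u q.2))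

/-- The normaliser test. -/
noncomputable def k7 (s : List ℕ) (l : ℕ) : Bool :=
  and (U.testBit l) (runL ((sw s).map Ltr.prog) vg fun a => runL (wx.map Ltr.prog) a fun b =>
    !decide (val b l = val a l))

end Cfsg.Agent.H995.LB
end

-- part: H995/LB/ChkC
section
set_option linter.all false

/-!
# `PSL(2, 23)` in the Baby Monster: kernel checks, the main test (helper995, for S5524)
-/

set_option autoImplicit false
set_option Elab.async false

namespace Cfsg.Agent.H995.LB

open Cfsg.Agent.Monster.VecEngine Cfsg.Agent.BabyM.Conc Cfsg.Agent.BabyM.WordsInst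

section

open Cfsg.Agent.BMx.Fast Cfsg.Agent.BMx.FastV

/-- The main test, fast. -/
noncomputable def k6F (s : List ℕ) (L : List (Fin 11 × ℕ)) : Bool :=
  runW (sw s ++ wd) (ofPl vf) fun w => runW wx w fun u => runW (wxi ++ sw s ++ wd) w fun v =>
    L.all fun q => and (U.testBit q.2) (runW (pj q.1) v fun y => neL y u q.2)

theorem c_ok : okV vf 196608 = true := by decide +kernel

theorem k6_of {s : List ℕ} {L : List (Fin 11 × ℕ)} (h : k6F s L = true) : k6 s L = true := by
  obtain ⟨h0, hc⟩ := sim_of_okV c_ok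
  obtain ⟨w, w', hw, h1, e1⟩ := h0.run hc h
  obtain ⟨u, u', hu, h2, e2⟩ := hw.run hc h1
  obtain ⟨v, v', hv, h3, e3⟩ := hw.run hc h2
  refine (e1 _).trans ((e2 _).trans ((e3 _).trans (List.all_eq_true.2 fun q hq => ?_)))
  obtain ⟨h4, h5⟩ := Bool.and_eq_true_iff.1 (List.all_eq_true.1 h3 q hq)
  obtain ⟨y, y', hy, h6, e4⟩ := hv.run hc h5
  exact Bool.and_eq_true_iff.2 ⟨h4, (e4 _).trans (hy.ne hu h4 h6)⟩

theorem c_main1 : ∀ i : Fin 26, 14 ≤ i.1 ∨ k6F (Sw i) (Sl i) = true := by decide +kernel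

theorem c_main2 : ∀ i : Fin 26, i.1 < 14 ∨ 20 ≤ i.1 ∨ k6F (Sw i) (Sl i) = true := by decide +kernel

theorem c_main3 : ∀ i : Fin 26, i.1 < 20 ∨ k6F (Sw i) (Sl i) = true := by decide +kernel

theorem c_main : ∀ i, k6 (Sw i) (Sl i) = true := fun i => k6_of (by
  rcases c_main1 i with h1 | h1
  · rcases c_main2 i with h2 | h2 | h2
    · omega
    · exact (c_main3 i).resolve_left (by omega)
    · exact h2
  · exact h1)

end

theorem c_cover : ∀ i : Fin 26, ∀ j : Fin 11, ((i = 20 ∨ i = 25) ∧ j = 0) ∨ ∃ q ∈ Sl i, q.1 = j := by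
  decide +kernel

end Cfsg.Agent.H995.LB
end

-- part: H995/LB/ChkB
section
set_option linter.all false
open scoped Cfsg.Agent.FastGrp

/-!
# `PSL(2, 23)` in the Baby Monster: kernel checks of the elements of square `1` (helper995, for S5524)
-/

set_option autoImplicit false
set_option Elab.async false

namespace Cfsg.Agent.H995.LB

open Cfsg.Agent.Monster.VecEngine Cfsg.Agent.BabyM.Conc Cfsg.Agent.BabyM.WordsInst

/-- The part of the word in front of the transposition. -/
def Sa : Fin 26 → List ℕ := ![[], [], [], [], [], [], [], [], [], [], [], [0], [0, 2], [0, 3], [1], [4], [0, 4], [1, 0],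
  [0, 2, 1], [0, 2, 4], [0, 3, 1], [0, 4, 3], [0, 1], [0, 1], [0, 1], [0, 1]]

/-- The part of the word behind the transposition. -/
def Sb : Fin 26 → List ℕ := ![[], [], [], [], [], [], [], [], [], [], [], [], [], [], [1], [4], [4], [1], [4], [1], [1],
  [4], [1, 0], [1, 2], [1, 4], [4, 3]]

/-- The product of the two parts. -/
def Sd : Fin 26 → Fin 26 := ![0, 0, 0, 0, 0, 0, 0, 0, 0, 0, 0, 1, 4, 5, 0, 0, 1, 1, 4, 4, 5, 5, 0, 5, 1, 4]

theorem b_dec : ∀ i : Fin 26, i.1 < 10 ∨ (Sw i = Sa i ++ ([5] ++ Sb i) ∧ (Sd i = 0 ∨ Sd i = 1 ∨ Sd i = 4 ∨ Sd i = 5)) := by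
  decide +kernel

section

open Cfsg.Agent.BMx.Fast Cfsg.Agent.BMx.Bridge Cfsg.Agent.BMx.FastV Cfsg.Agent.Monster.VecSpace

theorem b_batch : (∀ i : Fin 26, 10 ≤ i.1 ∨ eqF (sw (Sw i) ++ sw (Sw i)) [] = true) ∧
    (∀ i : Fin 26, eqF (sw (Sb i) ++ sw (Sa i)) (sw (Sw (Sd i))) = true) ∧ eqF (wT ++ wT) [] = true ∧
    eqF (wT ++ [Ltr.X10]) ([Ltr.X10] ++ wT) = true ∧ eqF (wT ++ [Ltr.tau]) ([Ltr.tau] ++ wT) = true := by
  decide +kernel

theorem b_sq : ∀ i : Fin 26, 10 ≤ i.1 ∨ eqc (sw (Sw i) ++ sw (Sw i)) [] = true :=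
  fun i => (b_batch.1 i).imp_right chk_of_eqF

theorem b_prod : ∀ i : Fin 26, eqc (sw (Sb i) ++ sw (Sa i)) (sw (Sw (Sd i))) = true :=
  fun i => chk_of_eqF (b_batch.2.1 i)

theorem b_TT : eqc (wT ++ wT) [] = true := chk_of_eqF b_batch.2.2.1

theorem b_T0 : eqc (wT ++ [Ltr.X10]) ([Ltr.X10] ++ wT) = true := chk_of_eqF b_batch.2.2.2.1

theorem b_Tt : eqc (wT ++ [Ltr.tau]) ([Ltr.tau] ++ wT) = true := chk_of_eqF b_batch.2.2.2.2

theorem b_sim : Sim x0 vB (2 * 423845888) := by
  have h : vec ℚ vB = ext ℚ U (W [] (vecU ℚ U vB)) := pv0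
  exact ⟨h ▸ reg0, by rw [h, ind_ext], len_of_sum (by norm_num) vB_sum⟩

/-- The values of the image of the vector of the base, fast. -/
noncomputable def k5F (s : List ℕ) (c : List ℤ) : Bool :=
  runW (sw s) x0 fun x => decide ([(rdF x 1313 : ℤ) - 131072, (rdF x 2048 : ℤ) - 131072, (rdF x 2162 : ℤ) - 131072,
    (rdF x 4096 : ℤ) - 131072, (rdF x 5120 : ℤ) - 131072, (rdF x 5234 : ℤ) - 131072] = c)

theorem k5_of {s : List ℕ} {c : List ℤ} (h : k5F s c = true) : k5 s c = true := by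
  obtain ⟨x, z, hz, hk, hK⟩ := b_sim.run (by norm_num) h
  refine (hK _).trans (decide_eq_true ?_)
  show [val z 1313, val z 2048, val z 2162, val z 4096, val z 5120, val z 5234] = c
  rw [← of_decide_eq_true hk, hz.val (by norm_num), hz.val (by norm_num), hz.val (by norm_num),
    hz.val (by norm_num), hz.val (by norm_num), hz.val (by norm_num)]

theorem b_codeF : ∀ i, k5F (Sw i) (Sc i) = true := by decide +kernel

theorem b_code : ∀ i, k5 (Sw i) (Sc i) = true := fun i => k5_of (b_codeF i)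

end

theorem b_inj : ∀ i j, Sc i = Sc j → i = j := by decide +kernel

end Cfsg.Agent.H995.LB
end

-- part: H995/LB/ChkD
section
set_option linter.all false

/-!
# `PSL(2, 23)` in the Baby Monster: kernel checks, normaliser test (helper995, for S5524)
-/

set_option autoImplicit false
set_option Elab.async false

namespace Cfsg.Agent.H995.LB

open Cfsg.Agent.Monster.VecEngine Cfsg.Agent.BabyM.Conc Cfsg.Agent.BabyM.WordsInst

section

open Cfsg.Agent.BMx.Fast Cfsg.Agent.BMx.FastV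

/-- The normaliser test, fast. -/
noncomputable def k7F (s : List ℕ) (l : ℕ) : Bool :=
  and (U.testBit l) (runW (sw s) (ofPl vg) fun a => runW wx a fun b => neL b a l)

theorem d_batch : okV vg 376832 = true ∧ (∀ i : Fin 26, i = 0 ∨ i = 3 ∨ k7F (Sw i) (Sn i) = true) ∧
    fixV wx vg 376832 = true ∧ fixV wx vf 196608 = true ∧ fixV [.p] vf 196608 = true := by decide +kernel

theorem k7_of {s : List ℕ} {l : ℕ} (h : k7F s l = true) : k7 s l = true := by
  obtain ⟨h0, hc⟩ := sim_of_okV d_batch.1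
  obtain ⟨h1, h2⟩ := Bool.and_eq_true_iff.1 (show and _ _ = true from h)
  obtain ⟨a, a', ha, h3, e1⟩ := h0.run hc h2
  obtain ⟨b, b', hb, h4, e2⟩ := ha.run hc h3
  exact Bool.and_eq_true_iff.2 ⟨h1, (e1 _).trans ((e2 _).trans (hb.ne ha h1 h4))⟩

theorem d_norm : ∀ i : Fin 26, i = 0 ∨ i = 3 ∨ k7 (Sw i) (Sn i) = true :=
  fun i => (d_batch.2.1 i).imp_right (Or.imp_right k7_of)

theorem d_fixg : checkFix (wx.map Ltr.prog) vg = true := fix_of_fixV d_batch.2.2.1

theorem d_fixf : checkFix (wx.map Ltr.prog) vf = true := fix_of_fixV d_batch.2.2.2.1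

theorem d_fixf' : checkFix (([.p] : List Ltr).map Ltr.prog) vf = true := fix_of_fixV d_batch.2.2.2.2

end

end Cfsg.Agent.H995.LB
end

-- part: H995/LB/ChkA
section
set_option linter.all false

/-!
# `PSL(2, 23)` in the Baby Monster: kernel checks of relations (helper995, for S5524)
-/

set_option autoImplicit false
set_option Elab.async false

namespace Cfsg.Agent.H995.LB

open Cfsg.Agent.Monster.VecEngine Cfsg.Agent.BabyM.Conc Cfsg.Agent.BabyM.WordsInst Cfsg.Agent.BMx.Bridge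

theorem a_batch : BMx.Fast.allEq [
    ((wx ++ wxi), []),
    (([Ltr.p8] ++ wx ++ [Ltr.p3]), (wx ++ wx)),
    (([Ltr.p9] ++ wx ++ [Ltr.p2]), (wx ++ wx ++ wx)),
    ((wd ++ wd), []),
    ((wd ++ [Ltr.p] ++ wd), [Ltr.p10]),
    (((sw (Sw 25) ++ wd ++ wx) ++ (sw (Sw 25) ++ wd ++ wx) ++ (sw (Sw 25) ++ wd ++ wx)), []),
    (([Ltr.p] ++ [Ltr.X10]), ([Ltr.X10] ++ [Ltr.p])),
    (([Ltr.p] ++ [Ltr.Z10]), ([Ltr.Z10] ++ [Ltr.p])),
    (([Ltr.p] ++ [Ltr.tau]), ([Ltr.tau] ++ [Ltr.p])),
    (([Ltr.p] ++ [Ltr.z]), ([Ltr.z] ++ [Ltr.p])),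
    (([Ltr.p] ++ wT), (wT ++ [Ltr.p])),
    ((wd ++ [Ltr.X10]), ([Ltr.X10] ++ wd)),
    ((wd ++ [Ltr.Z10]), ([Ltr.Z10] ++ wd)),
    ((wd ++ [Ltr.tau]), ([Ltr.tau] ++ wd)),
    ((wd ++ [Ltr.z]), ([Ltr.z] ++ wd)),
    ((wd ++ wT), (wT ++ wd)),
    ((wx ++ [Ltr.z]), ([Ltr.z] ++ wx)),
    (([Ltr.z] ++ sw (Sw 25) ++ [Ltr.z]), (sw (Sw 20))),
    ((sw [1, 2, 5] ++ sw [1, 2, 5]), (sw (Sw 25))),
    (([Ltr.z] ++ [Ltr.z]), [])] = true := by
  decide +kernel

theorem a_xxi : eqc (wx ++ wxi) [] = true :=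
  hd a_batch

theorem a_x2 : eqc ([Ltr.p8] ++ wx ++ [Ltr.p3]) (wx ++ wx) = true :=
  hd (tl a_batch)

theorem a_x3 : eqc ([Ltr.p9] ++ wx ++ [Ltr.p2]) (wx ++ wx ++ wx) = true :=
  hd (tl (tl a_batch))

theorem a_dd : eqc (wd ++ wd) [] = true :=
  hd (tl (tl (tl a_batch)))

theorem a_dpd : eqc (wd ++ [Ltr.p] ++ wd) [Ltr.p10] = true :=
  hd (tl (tl (tl (tl a_batch))))

theorem a_xt : eqc ((sw (Sw 25) ++ wd ++ wx) ++ (sw (Sw 25) ++ wd ++ wx) ++ (sw (Sw 25) ++ wd ++ wx)) [] = true :=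
  hd (tl (tl (tl (tl (tl a_batch)))))

theorem a_px0 : eqc ([Ltr.p] ++ [Ltr.X10]) ([Ltr.X10] ++ [Ltr.p]) = true :=
  hd (tl (tl (tl (tl (tl (tl a_batch))))))
theorem a_pz0 : eqc ([Ltr.p] ++ [Ltr.Z10]) ([Ltr.Z10] ++ [Ltr.p]) = true :=
  hd (tl (tl (tl (tl (tl (tl (tl a_batch)))))))
theorem a_pt : eqc ([Ltr.p] ++ [Ltr.tau]) ([Ltr.tau] ++ [Ltr.p]) = true :=
  hd (tl (tl (tl (tl (tl (tl (tl (tl a_batch))))))))
theorem a_pz : eqc ([Ltr.p] ++ [Ltr.z]) ([Ltr.z] ++ [Ltr.p]) = true :=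
  hd (tl (tl (tl (tl (tl (tl (tl (tl (tl a_batch)))))))))
theorem a_pT : eqc ([Ltr.p] ++ wT) (wT ++ [Ltr.p]) = true :=
  hd (tl (tl (tl (tl (tl (tl (tl (tl (tl (tl a_batch))))))))))

theorem a_dx0 : eqc (wd ++ [Ltr.X10]) ([Ltr.X10] ++ wd) = true :=
  hd (tl (tl (tl (tl (tl (tl (tl (tl (tl (tl (tl a_batch)))))))))))
theorem a_dz0 : eqc (wd ++ [Ltr.Z10]) ([Ltr.Z10] ++ wd) = true :=
  hd (tl (tl (tl (tl (tl (tl (tl (tl (tl (tl (tl (tl a_batch))))))))))))
theorem a_dt : eqc (wd ++ [Ltr.tau]) ([Ltr.tau] ++ wd) = true :=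
  hd (tl (tl (tl (tl (tl (tl (tl (tl (tl (tl (tl (tl (tl a_batch)))))))))))))
theorem a_dz : eqc (wd ++ [Ltr.z]) ([Ltr.z] ++ wd) = true :=
  hd (tl (tl (tl (tl (tl (tl (tl (tl (tl (tl (tl (tl (tl (tl a_batch))))))))))))))
theorem a_dT : eqc (wd ++ wT) (wT ++ wd) = true :=
  hd (tl (tl (tl (tl (tl (tl (tl (tl (tl (tl (tl (tl (tl (tl (tl a_batch)))))))))))))))

theorem a_zx : eqc (wx ++ [Ltr.z]) ([Ltr.z] ++ wx) = true :=
  hd (tl (tl (tl (tl (tl (tl (tl (tl (tl (tl (tl (tl (tl (tl (tl (tl a_batch))))))))))))))))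

/-- The two good elements are conjugate under `z`. -/
theorem a_good : eqc ([Ltr.z] ++ sw (Sw 25) ++ [Ltr.z]) (sw (Sw 20)) = true :=
  hd (tl (tl (tl (tl (tl (tl (tl (tl (tl (tl (tl (tl (tl (tl (tl (tl (tl a_batch)))))))))))))))))

/-- The good element is a square. -/
theorem a_root : eqc (sw [1, 2, 5] ++ sw [1, 2, 5]) (sw (Sw 25)) = true :=
  hd (tl (tl (tl (tl (tl (tl (tl (tl (tl (tl (tl (tl (tl (tl (tl (tl (tl (tl a_batch))))))))))))))))))

theorem a_zz : eqc ([Ltr.z] ++ [Ltr.z]) [] = true :=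
  hd (tl (tl (tl (tl (tl (tl (tl (tl (tl (tl (tl (tl (tl (tl (tl (tl (tl (tl (tl a_batch)))))))))))))))))))

end Cfsg.Agent.H995.LB
end

-- part: H995/LB/ChkE
section
set_option linter.all false

/-!
# `PSL(2, 23)` in the Baby Monster: kernel checks, powers of `p` (helper995, for S5524)
-/

set_option autoImplicit false
set_option Elab.async false

namespace Cfsg.Agent.H995.LB

open Cfsg.Agent.Monster.VecEngine Cfsg.Agent.BabyM.Conc Cfsg.Agent.BabyM.WordsInst

theorem e_p11 : eqc (List.replicate 11 .p) [] = true := by decide +kernel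

theorem e_pj : ∀ j, eqc (pj j) (List.replicate j.1 .p) = true := by decide +kernel

theorem e_taui : eqc ([Ltr.tau] ++ [Ltr.taui]) [] = true := by decide +kernel

end Cfsg.Agent.H995.LB
end

-- part: H995/LB/DataF
section
prune_inst 0x10304100742202000818000022003c62b2000102004b4001f14004000dcf1c41a0450e21fa700a1291fc1cf4787ec04811100109023800002000ba00411e01a0842f78e2863cbf041f000940f803180c00000000000000000000000000041004000000000
set_option linter.all false

/-!
# `PSL(2, 23)` in `Fi23` in the Baby Monster: words (helper995, for S5524)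
-/

set_option autoImplicit false

namespace Cfsg.Agent.H995.LB

open Cfsg.Agent.Monster.VecEngine Cfsg.Agent.Monster.VecSpace
open Cfsg.Agent.BabyM.Conc Cfsg.Spor Cfsg.Agent.BM.StageW

/-- The words of the generators of the standard `Fi23`. -/
def fw : Fi23.Gen → List Ltr
  | .a => tw .t11
  | .b => tw .t10
  | .c => tw .t9
  | .d => tw .t5
  | .e => tw .t4
  | .f => tw .t3
  | .g => tw .t2
  | .j => tw .t1
  | .h => tw .t6
  | .i => tw .t7

/-- A word in the generators of the standard `Fi23`. -/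
def kw (l : List Fi23.Gen) : List Ltr := l.flatMap fw

/-- The word moving `PSL(2, 23)` into the standard `Fi23`. -/
def wg : List Ltr := [.z, .Z7, .Z6, .Z1, .Z0, .X9, .X7, .X5, .X2, .X0, .y2, .xii, .p2, .xii, .p4, .taui, .xii, .p10, .xii, .p10, .taui, .xii, .p, .taui, .xii, .p, .Z0, .Z2, .Z4, .Z5, .Z6, .p10, .xi, .tau, .p10, .xi, .tau, .p, .xi, .p, .xi, .tau, .p7, .xi, .p9, .xi, .y2, .X0, .X2, .X5, .X7, .X9, .Z0, .Z1, .Z6, .Z7, .y2, .xii, .p2, .xii, .p4, .y1, .X0, .X1, .X5, .X7, .X8, .X9, .X10, .Z0, .Z1, .Z6, .Z7, .Z8, .Z10, .tau, .xii, .p]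

end Cfsg.Agent.H995.LB
end

-- part: H995/LB/PSL
section
prune_inst 0x104000700000000000000000001c2292000100000800000040000005890c00000008208a2000020028000400340048110000000200000000000000011c0180000800028008a000000000000000000000000000000000000000000000000004000000000
set_option linter.all false
open scoped Cfsg.Agent.FastGrp

-- part: H995/LB/Rel
section
/-!
# A presentation of `PSL(2, 23)`: the upper bound (helper995, for S5524)

`Rel x y t` : the relations; `card_le` : `⟨x, y, t⟩` has order at most `6072`; if it has order `6072`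
then every element has a unique normal form, and the centralizer of `y` in it is `⟨y⟩`.
-/

set_option autoImplicit false

namespace Cfsg.Agent.H995.LB

open Subgroup

/-- The relations of `PSL(2, 23)`. -/
structure Rel {G : Type*} [Group G] (x y t : G) : Prop where
  x23 : x ^ 23 = 1
  y11 : y ^ 11 = 1
  yx : y * x * y⁻¹ = x ^ 16
  t2 : t * t = 1
  ty : t * y * t = y⁻¹
  xt : (x * t) ^ 3 = 1

namespace Rel

variable {G : Type*} [Group G] {x y t : G} (h : Rel x y t)

include h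

theorem t_inv : t⁻¹ = t := inv_eq_of_mul_eq_one_left h.t2

theorem xmod {a b : ℕ} (hab : a % 23 = b % 23) : x ^ a = x ^ b := by
  rw [← Nat.mod_add_div a 23, ← Nat.mod_add_div b 23, hab, pow_add, pow_add, pow_mul, pow_mul, h.x23,
    one_pow, one_pow]

theorem ymod {a b : ℕ} (hab : a % 11 = b % 11) : y ^ a = y ^ b := by
  rw [← Nat.mod_add_div a 11, ← Nat.mod_add_div b 11, hab, pow_add, pow_add, pow_mul, pow_mul, h.y11,
    one_pow, one_pow]

/-- `y^m x^n = x^(16^m n) y^m` -/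
theorem yx_pow (m n : ℕ) : y ^ m * x ^ n = x ^ (16 ^ m * n) * y ^ m := by
  have h1 : ∀ n, y * x ^ n = x ^ (16 * n) * y := by
    intro n
    have h2 : (y * x * y⁻¹) ^ n = x ^ (16 * n) := by rw [h.yx, ← pow_mul]
    rw [conj_pow] at h2
    rw [← h2]
    group
  induction m generalizing n with
  | zero => simp
  | succ m ih =>
    rw [pow_succ, mul_assoc, h1, ← mul_assoc, ih, mul_assoc, ← pow_succ,
      show 16 ^ m * (16 * n) = 16 ^ (m + 1) * n by ring]

/-- `x^n y^m = y^m x^(16^(10 m) n)` -/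
theorem xy_pow (m n : ℕ) : x ^ n * y ^ m = y ^ m * x ^ (16 ^ (10 * m) * n) := by
  rw [h.yx_pow m, ← mul_assoc (16 ^ m), ← pow_add]
  congr 1
  apply h.xmod
  rw [show m + 10 * m = 11 * m by ring, pow_mul, Nat.mul_mod, Nat.pow_mod, show (16 ^ 11) % 23 = 1 by norm_num,
    one_pow, ← Nat.mul_mod, one_mul]

theorem ty_pow (m : ℕ) : t * y ^ m = y ^ (10 * m) * t := by
  have h1 : t * y = y ^ 10 * t := by
    have h2 : y ^ 10 = y⁻¹ := by
      rw [eq_inv_iff_mul_eq_one, ← pow_succ]; exact h.y11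
    rw [h2, ← h.ty, mul_assoc, h.t2, mul_one]
  induction m with
  | zero => simp
  | succ m ih =>
    rw [pow_succ, ← mul_assoc, ih, mul_assoc, h1, ← mul_assoc, ← pow_add]
    congr 2

theorem txt : t * x * t = x ^ 22 * t * x ^ 22 := by
  have h1 : x ^ 22 = x⁻¹ := by
    rw [eq_inv_iff_mul_eq_one, ← pow_succ]; exact h.x23
  have h2 : x * t * (x * t) * (x * t) = 1 := by
    have := h.xt
    rwa [pow_succ, pow_two] at this
  have h3 : t * x * t = x⁻¹ * (x * t * (x * t) * (x * t)) * t⁻¹ * x⁻¹ := by group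
  rw [h3, h2, h1, h.t_inv, mul_one]

/-- `t x^(16^m) t` -/
theorem txt_pos (m : ℕ) : t * x ^ (16 ^ m) * t =
    x ^ (16 ^ (10 * m) * 22) * y ^ (9 * m) * t * x ^ (16 ^ (10 * m) * 22) := by
  -- `x^(16^m) = y^m x y^(10 m)`
  have h1 : x ^ (16 ^ m) = y ^ m * x * y ^ (10 * m) := by
    have h2 := h.yx_pow m 1
    rw [pow_one, mul_one] at h2
    rw [h2, mul_assoc, ← pow_add, h.ymod (a := m + 10 * m) (b := 0) (by omega), pow_zero, mul_one]
  have h3 : y ^ (10 * m) * t = t * y ^ m := (h.ty_pow m).symm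
  calc t * x ^ (16 ^ m) * t = t * y ^ m * x * (y ^ (10 * m) * t) := by rw [h1]; simp only [mul_assoc]
    _ = (y ^ (10 * m) * t) * x * (y ^ (10 * m) * t) := by rw [h.ty_pow m]
    _ = (y ^ (10 * m) * t) * x * (t * y ^ m) := congrArg (fun w => (y ^ (10 * m) * t) * x * w) h3
    _ = y ^ (10 * m) * (t * x * t) * y ^ m := by simp only [mul_assoc]
    _ = (y ^ (10 * m) * x ^ 22) * t * (x ^ 22 * y ^ m) := by rw [h.txt]; simp only [mul_assoc]
    _ = x ^ (16 ^ (10 * m) * 22) * (y ^ (10 * m) * (t * y ^ m)) * x ^ (16 ^ (10 * m) * 22) := by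
      rw [h.yx_pow, h.xy_pow m 22]; simp only [mul_assoc]
    _ = _ := by
      rw [h.ty_pow m, ← mul_assoc (y ^ (10 * m)), ← pow_add,
        h.ymod (a := 10 * m + 10 * m) (b := 9 * m) (by omega)]
      simp only [mul_assoc]

theorem inv_x (n : ℕ) : (x ^ n)⁻¹ = x ^ (22 * n) := by
  rw [inv_eq_iff_mul_eq_one, ← pow_add, h.xmod (a := n + 22 * n) (b := 0) (by omega), pow_zero]

theorem inv_y (n : ℕ) : (y ^ n)⁻¹ = y ^ (10 * n) := by
  rw [inv_eq_iff_mul_eq_one, ← pow_add, h.ymod (a := n + 10 * n) (b := 0) (by omega), pow_zero]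

/-- `t x^a t` for `a` prime to `23`. -/
theorem txt_exists {a : ℕ} (ha : a % 23 ≠ 0) : ∃ b c d : ℕ, t * x ^ a * t = x ^ b * y ^ c * t * x ^ d := by
  have h1 : ∀ a : Fin 23, a ≠ 0 → ∃ m : Fin 11, (16 ^ m.1 % 23 = a.1 ∨ 22 * 16 ^ m.1 % 23 = a.1) := by
    decide +kernel
  obtain ⟨m, hm⟩ := h1 ⟨a % 23, Nat.mod_lt _ (by norm_num)⟩ (fun h => ha (congrArg Fin.val h))
  rcases hm with hm | hm
  · have h2 : x ^ a = x ^ (16 ^ m.1) := h.xmod hm.symm
    rw [h2]
    exact ⟨_, _, _, h.txt_pos m.1⟩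
  · have h2 : x ^ a = (x ^ (16 ^ m.1))⁻¹ := by rw [h.inv_x]; exact h.xmod hm.symm
    have h3 : t * (x ^ (16 ^ m.1))⁻¹ * t = (t * x ^ (16 ^ m.1) * t)⁻¹ := by
      rw [mul_inv_rev, mul_inv_rev, h.t_inv, mul_assoc]
    rw [h2, h3, h.txt_pos]
    set e := 16 ^ (10 * m.1) * 22
    refine ⟨22 * e, 10 * (10 * (9 * m.1)), 22 * e, ?_⟩
    rw [mul_inv_rev, mul_inv_rev, mul_inv_rev, h.t_inv, h.inv_x, h.inv_y, ← mul_assoc t, h.ty_pow]
    simp only [mul_assoc]

/-- The normal form. -/
def nf (x y t : G) : (Fin 23 × Fin 11) ⊕ (Fin 23 × Fin 11 × Fin 23) → G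
  | .inl (a, b) => x ^ a.1 * y ^ b.1
  | .inr (a, b, c) => x ^ a.1 * y ^ b.1 * t * x ^ c.1

omit h in
theorem inl_mem (h : Rel x y t) (a b : ℕ) : x ^ a * y ^ b ∈ Set.range (nf x y t) :=
  ⟨.inl (⟨a % 23, Nat.mod_lt _ (by norm_num)⟩, ⟨b % 11, Nat.mod_lt _ (by norm_num)⟩), by
    show x ^ (a % 23) * y ^ (b % 11) = _
    rw [h.xmod (Nat.mod_mod a 23), h.ymod (Nat.mod_mod b 11)]⟩

omit h in
theorem inr_mem (h : Rel x y t) (a b c : ℕ) : x ^ a * y ^ b * t * x ^ c ∈ Set.range (nf x y t) :=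
  ⟨.inr (⟨a % 23, Nat.mod_lt _ (by norm_num)⟩, ⟨b % 11, Nat.mod_lt _ (by norm_num)⟩,
    ⟨c % 23, Nat.mod_lt _ (by norm_num)⟩), by
    show x ^ (a % 23) * y ^ (b % 11) * t * x ^ (c % 23) = _
    rw [h.xmod (Nat.mod_mod a 23), h.ymod (Nat.mod_mod b 11), h.xmod (Nat.mod_mod c 23)]⟩

theorem mul_mem {s g : G} (hs : s = x ∨ s = y ∨ s = t) (hg : g ∈ Set.range (nf x y t)) :
    s * g ∈ Set.range (nf x y t) := by
  obtain ⟨i, rfl⟩ := hg
  rcases i with ⟨a, b⟩ | ⟨a, b, c⟩
  · show s * (x ^ a.1 * y ^ b.1) ∈ _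
    rcases hs with rfl | rfl | rfl
    · rw [← mul_assoc, ← pow_succ']
      exact inl_mem h _ _
    · have e : s * (x ^ a.1 * s ^ b.1) = (s ^ 1 * x ^ a.1) * s ^ b.1 := by rw [pow_one, mul_assoc]
      rw [e, h.yx_pow, mul_assoc, ← pow_add]
      exact inl_mem h _ _
    · rw [h.xy_pow, ← mul_assoc, h.ty_pow]
      have := inr_mem h 0 (10 * b.1) (16 ^ (10 * b.1) * a.1)
      rwa [pow_zero, one_mul] at this
  · show s * (x ^ a.1 * y ^ b.1 * t * x ^ c.1) ∈ _
    rcases hs with rfl | rfl | rfl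
    · rw [← mul_assoc, ← mul_assoc, ← mul_assoc, ← pow_succ']
      exact inr_mem h _ _ _
    · have e : s * (x ^ a.1 * s ^ b.1 * t * x ^ c.1) = (s ^ 1 * x ^ a.1) * s ^ b.1 * t * x ^ c.1 := by
        rw [pow_one]; simp only [mul_assoc]
      rw [e, h.yx_pow, mul_assoc (x ^ _), ← pow_add]
      exact inr_mem h _ _ _
    · by_cases ha : a.1 % 23 = 0
      · have h0 : x ^ a.1 = 1 := (h.xmod (a := a.1) (b := 0) (by omega)).trans (pow_zero x)
        have e : s * (x ^ a.1 * y ^ b.1 * s * x ^ c.1) = (s * y ^ b.1) * s * x ^ c.1 := by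
          rw [h0, one_mul]; simp only [mul_assoc]
        rw [e, h.ty_pow, mul_assoc (y ^ _), h.t2, mul_one, h.yx_pow]
        exact inl_mem h _ _
      · obtain ⟨b', c', d', h1⟩ := h.txt_exists ha
        have h3 : y ^ (10 * b.1) * s = s * y ^ b.1 := (h.ty_pow b.1).symm
        have h4 : s * y ^ b.1 * s = y ^ (10 * b.1) := by rw [h.ty_pow, mul_assoc, h.t2, mul_one]
        have e : s * (x ^ a.1 * y ^ b.1 * s * x ^ c.1) =
            (s * x ^ a.1 * s) * (s * y ^ b.1 * s) * x ^ c.1 := by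
          calc s * (x ^ a.1 * y ^ b.1 * s * x ^ c.1) = s * x ^ a.1 * (1 * y ^ b.1) * s * x ^ c.1 := by
                rw [one_mul]; simp only [mul_assoc]
            _ = _ := by rw [← h.t2]; simp only [mul_assoc]
        rw [e, h1, h4]
        have e2 : x ^ b' * y ^ c' * s * x ^ d' * y ^ (10 * b.1) * x ^ c.1 =
            x ^ b' * (y ^ c' * (s * y ^ (10 * b.1))) * x ^ (16 ^ (10 * (10 * b.1)) * d' + c.1) := by
          calc x ^ b' * y ^ c' * s * x ^ d' * y ^ (10 * b.1) * x ^ c.1 =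
                x ^ b' * (y ^ c' * s) * (x ^ d' * y ^ (10 * b.1)) * x ^ c.1 := by simp only [mul_assoc]
            _ = _ := by rw [h.xy_pow (10 * b.1) d', pow_add]; simp only [mul_assoc]
        rw [e2, h.ty_pow, ← mul_assoc (y ^ c'), ← pow_add, ← mul_assoc (x ^ b')]
        exact inr_mem h _ _ _

theorem closure_le : (closure {x, y, t} : Set G) ⊆ Set.range (nf x y t) := by
  intro g hg
  have hfin : ∀ s : G, (s = x ∨ s = y ∨ s = t) → ∃ n : ℕ, s⁻¹ = s ^ n := by
    rintro s (rfl | rfl | rfl)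
    · exact ⟨22, by have := h.inv_x 1; rwa [pow_one, mul_one] at this⟩
    · exact ⟨10, by have := h.inv_y 1; rwa [pow_one, mul_one] at this⟩
    · exact ⟨1, by rw [pow_one]; exact h.t_inv⟩
  have hpow : ∀ s : G, (s = x ∨ s = y ∨ s = t) → ∀ n : ℕ, ∀ g ∈ Set.range (nf x y t),
      s ^ n * g ∈ Set.range (nf x y t) := by
    intro s hs n
    induction n with
    | zero => intro g hg; simpa only [_root_.pow_zero, _root_.one_mul, _root_.Set.mem_range, _root_.Sum.exists, _root_.Prod.exists] using hg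
    | succ n ih => intro g hg; rw [pow_succ, mul_assoc]; exact ih _ (h.mul_mem hs hg)
  have hone : (1 : G) ∈ Set.range (nf x y t) := by
    have := inl_mem h 0 0
    rwa [pow_zero, pow_zero, one_mul] at this
  have key : ∀ g ∈ _root_.Subgroup.closure {x, y, t}, ∀ r ∈ Set.range (nf x y t), g * r ∈ Set.range (nf x y t) := by
    intro g hg
    induction hg using closure_induction with
    | mem s hs => intro r hr; exact h.mul_mem (by simpa using hs) hr
    | one => intro r hr; rwa [one_mul]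
    | mul a b _ _ iha ihb => intro r hr; rw [mul_assoc]; exact iha _ (ihb _ hr)
    | inv a ha iha =>
      intro r hr
      -- the left multiplication by `a` is injective on a finite set
      have hfinS : (Set.range (nf x y t)).Finite := Set.finite_range _
      have hinj : Set.InjOn (fun r => a * r) (Set.range (nf x y t)) := fun _ _ _ _ h => mul_left_cancel h
      have himg : (fun r => a * r) '' Set.range (nf x y t) = Set.range (nf x y t) := by
        apply Set.eq_of_subset_of_ncard_le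
        · rintro _ ⟨r, hr, rfl⟩
          exact iha r hr
        · rw [hinj.ncard_image]
        · exact hfinS
      have h1 : r ∈ (fun r => a * r) '' Set.range (nf x y t) := by rw [himg]; exact hr
      obtain ⟨r', hr', h2⟩ := h1
      have h3 : a⁻¹ * r = r' := by rw [← h2]; group
      rw [h3]
      exact hr'
  have := key g hg 1 hone
  rwa [mul_one] at this

theorem finite : Finite (closure {x, y, t}) :=
  ((Set.finite_range (nf x y t)).subset h.closure_le).to_subtype

theorem card_le : Nat.card (closure {x, y, t}) ≤ 6072 := by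
  have h1 : Nat.card (closure {x, y, t}) ≤ (Set.range (nf x y t)).ncard :=
    Set.ncard_le_ncard h.closure_le (Set.finite_range _)
  have h2 : (Set.range (nf x y t)).ncard ≤ Nat.card ((Fin 23 × Fin 11) ⊕ (Fin 23 × Fin 11 × Fin 23)) := by
    rw [← Set.image_univ, ← Set.ncard_univ]
    exact Set.ncard_image_le Set.finite_univ
  have h3 : Nat.card ((Fin 23 × Fin 11) ⊕ (Fin 23 × Fin 11 × Fin 23)) = 6072 := by
    rw [Nat.card_eq_fintype_card]
    simp only [_root_.Fintype.card_sum, _root_.Fintype.card_prod, _root_.Fintype.card_fin, _root_.Nat.reduceMul, _root_.Nat.reduceAdd]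
  omega

omit h in
theorem nf_mem (i : (Fin 23 × Fin 11) ⊕ (Fin 23 × Fin 11 × Fin 23)) : nf x y t i ∈ _root_.Subgroup.closure {x, y, t} := by
  have hx : x ∈ _root_.Subgroup.closure {x, y, t} := _root_.Subgroup.subset_closure (by simp)
  have hy : y ∈ _root_.Subgroup.closure {x, y, t} := _root_.Subgroup.subset_closure (by simp)
  have ht : t ∈ closure {x, y, t} := _root_.Subgroup.subset_closure (by simp)
  rcases i with ⟨a, b⟩ | ⟨a, b, c⟩
  · exact Subgroup.mul_mem _ (Subgroup.pow_mem _ hx _) (Subgroup.pow_mem _ hy _)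
  · exact Subgroup.mul_mem _ (Subgroup.mul_mem _ (Subgroup.mul_mem _ (Subgroup.pow_mem _ hx _)
      (Subgroup.pow_mem _ hy _)) ht) (Subgroup.pow_mem _ hx _)

theorem nf_injective (hc : Nat.card (closure {x, y, t}) = 6072) : Function.Injective (nf x y t) := by
  have := h.finite
  have h3 : Nat.card ((Fin 23 × Fin 11) ⊕ (Fin 23 × Fin 11 × Fin 23)) = 6072 := by
    rw [Nat.card_eq_fintype_card]
    simp only [_root_.Fintype.card_sum, _root_.Fintype.card_prod, _root_.Fintype.card_fin, _root_.Nat.reduceMul, _root_.Nat.reduceAdd]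
  let f : (Fin 23 × Fin 11) ⊕ (Fin 23 × Fin 11 × Fin 23) → closure {x, y, t} := fun i => ⟨nf x y t i, nf_mem i⟩
  have hs : Function.Surjective f := by
    rintro ⟨g, hg⟩
    obtain ⟨i, hi⟩ := h.closure_le hg
    exact ⟨i, Subtype.ext hi⟩
  have hb : Function.Bijective f := (Nat.bijective_iff_surjective_and_card f).2 ⟨hs, by rw [h3, hc]⟩
  intro i j hij
  exact hb.1 (Subtype.ext hij)

/-- The centralizer of `y` in `⟨x, y, t⟩`. -/
theorem cent_y (hc : Nat.card (closure {x, y, t}) = 6072) {g : G} (hg : g ∈ closure {x, y, t})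
    (hgy : g * y = y * g) : ∃ n : ℕ, g = y ^ n := by
  have hinj := h.nf_injective hc
  obtain ⟨i, rfl⟩ := h.closure_le hg
  have hyi : y * nf x y t i * y⁻¹ = nf x y t i := by rw [← hgy]; group
  rcases i with ⟨a, b⟩ | ⟨a, b, c⟩
  · have h1 : y * (x ^ a.1 * y ^ b.1) * y⁻¹ = x ^ (16 * a.1) * y ^ b.1 := by
      have h2 := h.yx_pow 1 a.1
      rw [pow_one, pow_one] at h2
      calc y * (x ^ a.1 * y ^ b.1) * y⁻¹ = (y * x ^ a.1) * y ^ b.1 * y⁻¹ := by simp only [mul_assoc]
        _ = x ^ (16 * a.1) * y ^ b.1 := by rw [h2]; group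
    have h3 : x ^ (16 * a.1) * y ^ b.1 = x ^ a.1 * y ^ b.1 := h1.symm.trans hyi
    have h4 : nf x y t (.inl (⟨16 * a.1 % 23, Nat.mod_lt _ (by norm_num)⟩, b)) = nf x y t (.inl (a, b)) := by
      show x ^ (16 * a.1 % 23) * y ^ b.1 = x ^ a.1 * y ^ b.1
      rw [h.xmod (Nat.mod_mod _ 23)]
      exact h3
    have h5 := hinj h4
    have h6 : 16 * a.1 % 23 = a.1 := congrArg (fun i : (Fin 23 × Fin 11) ⊕ (Fin 23 × Fin 11 × Fin 23) =>
      match i with | .inl (a, _) => a.1 | .inr _ => 0) h5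
    have ha := a.2
    have h7 : a.1 = 0 := by omega
    exact ⟨b.1, by show x ^ a.1 * y ^ b.1 = _; rw [h7, pow_zero, one_mul]⟩
  · exfalso
    have hyt : t * y⁻¹ = y * t := by
      have := h.ty
      rw [← this]
      rw [← mul_assoc, ← mul_assoc, h.t2, one_mul]
    have h1 : y * (x ^ a.1 * y ^ b.1 * t * x ^ c.1) * y⁻¹ =
        x ^ (16 * a.1) * y ^ (b.1 + 2) * t * x ^ (16 * c.1) := by
      have h2 := h.yx_pow 1 a.1
      rw [pow_one, pow_one] at h2
      have h3 := h.yx_pow 1 c.1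
      rw [pow_one, pow_one] at h3
      have h4 : x ^ c.1 * y⁻¹ = y⁻¹ * x ^ (16 * c.1) := by
        calc x ^ c.1 * y⁻¹ = y⁻¹ * (y * x ^ c.1) * y⁻¹ := by group
          _ = y⁻¹ * x ^ (16 * c.1) := by rw [h3]; group
      calc y * (x ^ a.1 * y ^ b.1 * t * x ^ c.1) * y⁻¹ =
            (y * x ^ a.1) * y ^ b.1 * t * (x ^ c.1 * y⁻¹) := by simp only [mul_assoc]
        _ = x ^ (16 * a.1) * (y * y ^ b.1) * (t * y⁻¹) * x ^ (16 * c.1) := by
            rw [h2, h4]; simp only [mul_assoc]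
        _ = x ^ (16 * a.1) * (y * y ^ b.1 * y) * t * x ^ (16 * c.1) := by rw [hyt]; simp only [mul_assoc]
        _ = _ := by rw [← pow_succ', ← pow_succ]
    have h3 := h1.symm.trans hyi
    have h4 : nf x y t (.inr (⟨16 * a.1 % 23, Nat.mod_lt _ (by norm_num)⟩,
        ⟨(b.1 + 2) % 11, Nat.mod_lt _ (by norm_num)⟩, ⟨16 * c.1 % 23, Nat.mod_lt _ (by norm_num)⟩)) =
        nf x y t (.inr (a, b, c)) := by
      show x ^ (16 * a.1 % 23) * y ^ ((b.1 + 2) % 11) * t * x ^ (16 * c.1 % 23) = _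
      rw [h.xmod (Nat.mod_mod _ 23), h.ymod (Nat.mod_mod _ 11), h.xmod (Nat.mod_mod _ 23)]
      exact h3
    have h5 := hinj h4
    have h6 : (b.1 + 2) % 11 = b.1 := congrArg (fun i : (Fin 23 × Fin 11) ⊕ (Fin 23 × Fin 11 × Fin 23) =>
      match i with | .inl _ => 0 | .inr (_, b, _) => b.1) h5
    have hb := b.2
    omega

end Rel

end Cfsg.Agent.H995.LB
end

-- part: H995/LB/PSL
section
/-!
# `PSL(2, 23)` by its presentation (helper995, for S5524)

* `exists_rel` : generators of `PSL(2, F)`, `|F| = 23`, satisfying `Rel`;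
* `iso` : `⟨x, y, t⟩ ≅ PSL(2, F)` for `Rel x y t`, `x ≠ 1`.
-/

set_option autoImplicit false

namespace Cfsg.Agent.H995.LB

open Subgroup Matrix

variable {F : Type*} [Field F]

section

variable (F)

/-- `[1, 1; 0, 1]` -/
def mx : _root_.Matrix.SpecialLinearGroup (Fin 2) F := ⟨!![1, 1; 0, 1], by simp [Matrix.det_fin_two]⟩

/-- `[0, 1; -1, 0]` -/
def mt : _root_.Matrix.SpecialLinearGroup (Fin 2) F := ⟨!![0, 1; -1, 0], by simp [Matrix.det_fin_two]⟩

end

/-- `[1, a; 0, 1]` -/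
def mu (a : F) : _root_.Matrix.SpecialLinearGroup (Fin 2) F := ⟨!![1, a; 0, 1], by simp [Matrix.det_fin_two]⟩

/-- `[1, 0; a, 1]` -/
def ml (a : F) : _root_.Matrix.SpecialLinearGroup (Fin 2) F := ⟨!![1, 0; a, 1], by simp [Matrix.det_fin_two]⟩

theorem coe_mx : (mx F : Matrix (Fin 2) (Fin 2) F) = !![1, 1; 0, 1] := rfl

theorem coe_mt : (mt F : Matrix (Fin 2) (Fin 2) F) = !![0, 1; -1, 0] := rfl

theorem coe_mu (a : F) : (mu a : Matrix (Fin 2) (Fin 2) F) = !![1, a; 0, 1] := rfl

theorem coe_ml (a : F) : (ml a : Matrix (Fin 2) (Fin 2) F) = !![1, 0; a, 1] := rfl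

theorem mat_ext {a b c d a' b' c' d' : F} (h1 : a = a') (h2 : b = b') (h3 : c = c') (h4 : d = d') :
    !![a, b; c, d] = !![a', b'; c', d'] := by rw [h1, h2, h3, h4]

theorem mx_pow (n : ℕ) : (mx F) ^ n = mu (n : F) := by
  induction n with
  | zero =>
    rw [pow_zero]
    apply Subtype.ext
    rw [coe_mu, Matrix.SpecialLinearGroup.coe_one, Matrix.one_fin_two]
    simp
  | succ n ih =>
    rw [pow_succ, ih]
    apply Subtype.ext
    rw [Matrix.SpecialLinearGroup.coe_mul, coe_mu, coe_mu, coe_mx, Matrix.mul_fin_two]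
    apply mat_ext <;> push_cast <;> ring

theorem ml_eq (a : F) : ml a = mt F * mu (-a) * (mt F)⁻¹ := by
  rw [eq_mul_inv_iff_mul_eq]
  apply Subtype.ext
  rw [Matrix.SpecialLinearGroup.coe_mul, Matrix.SpecialLinearGroup.coe_mul, coe_mu, coe_ml, coe_mt,
    Matrix.mul_fin_two, Matrix.mul_fin_two]
  apply mat_ext <;> ring

theorem mem_of_low {L : Subgroup (_root_.Matrix.SpecialLinearGroup (Fin 2) F)} (hu : ∀ a, mu a ∈ L) (hl : ∀ a, ml a ∈ L)
    (A : _root_.Matrix.SpecialLinearGroup (Fin 2) F) (hc : A.1 1 0 ≠ 0) : A ∈ L := by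
  have hd := A.2
  rw [Matrix.det_fin_two] at hd
  have e : A = mu ((A.1 0 0 - 1) / A.1 1 0) * ml (A.1 1 0) * mu ((A.1 1 1 - 1) / A.1 1 0) := by
    apply Subtype.ext
    rw [Matrix.SpecialLinearGroup.coe_mul, Matrix.SpecialLinearGroup.coe_mul, coe_mu, coe_ml, coe_mu,
      Matrix.mul_fin_two, Matrix.mul_fin_two]
    refine (Matrix.eta_fin_two A.1).trans ?_
    apply mat_ext
    · field_simp
      ring
    · field_simp
      linear_combination -hd
    · field_simp
      ring
    · field_simp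
      ring
  rw [e]
  exact L.mul_mem (L.mul_mem (hu _) (hl _)) (hu _)

theorem closure_sl (hN : ∀ a : F, ∃ n : ℕ, (n : F) = a) : _root_.Subgroup.closure {mx F, mt F} = ⊤ := by
  set L := _root_.Subgroup.closure {mx F, mt F} with hL
  have hx : mx F ∈ L := _root_.Subgroup.subset_closure (by simp)
  have ht : mt F ∈ L := _root_.Subgroup.subset_closure (by simp)
  have hu : ∀ a, mu a ∈ L := by
    intro a
    obtain ⟨n, rfl⟩ := hN a
    rw [← mx_pow]
    exact L.pow_mem hx n
  have hl : ∀ a, ml a ∈ L := by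
    intro a
    rw [ml_eq]
    exact L.mul_mem (L.mul_mem ht (hu _)) (L.inv_mem ht)
  rw [eq_top_iff]
  rintro A -
  by_cases hc : A.1 1 0 = 0
  · have h1 : mt F * A ∈ L := by
      apply mem_of_low hu hl
      have hd := A.2
      rw [Matrix.det_fin_two, hc, mul_zero, sub_zero] at hd
      have e : (mt F * A).1 1 0 = - A.1 0 0 := by
        rw [Matrix.SpecialLinearGroup.coe_mul, coe_mt, Matrix.mul_apply, Fin.sum_univ_two]
        simp
      rw [e]
      intro h0
      rw [neg_eq_zero] at h0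
      rw [h0, zero_mul] at hd
      exact zero_ne_one hd
    have h2 := L.mul_mem (L.inv_mem ht) h1
    rwa [inv_mul_cancel_left] at h2
  · exact mem_of_low hu hl A hc

variable [Fintype F]

theorem charP (hF : Fintype.card F = 23) : CharP F 23 := by
  obtain ⟨p, hp⟩ := CharP.exists F
  obtain ⟨n, hpp, hn⟩ := FiniteField.card F p
  rw [hF] at hn
  have h1 : p ∣ 23 := by rw [hn]; exact dvd_pow_self p n.2.ne'
  have h2 : p = 23 := (Nat.prime_dvd_prime_iff_eq hpp (by norm_num)).1 h1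
  rwa [← h2]

theorem exists_nat (hF : Fintype.card F = 23) (a : F) : ∃ n : ℕ, (n : F) = a := by
  have := charP hF
  have hinj : Function.Injective (fun n : Fin 23 => ((n : ℕ) : F)) := by
    intro m n hmn
    have h1 : ((m : ℕ) : F) = ((n : ℕ) : F) := hmn
    rw [CharP.natCast_eq_natCast F 23] at h1
    have h2 : (m : ℕ) % 23 = (n : ℕ) % 23 := h1
    rw [Nat.mod_eq_of_lt m.2, Nat.mod_eq_of_lt n.2] at h2
    exact Fin.ext h2
  have hb : Function.Bijective (fun n : Fin 23 => ((n : ℕ) : F)) := by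
    rw [Fintype.bijective_iff_injective_and_card]
    exact ⟨hinj, by rw [hF, Fintype.card_fin]⟩
  obtain ⟨n, hn⟩ := hb.2 a
  exact ⟨n, hn⟩

theorem mk_eq_one {A : _root_.Matrix.SpecialLinearGroup (Fin 2) F} (h : (A : Matrix (Fin 2) (Fin 2) F) = 1 ∨ (A : Matrix (Fin 2) (Fin 2) F) = -1) :
    (QuotientGroup.mk A : ProjectiveSpecialLinearGroup (Fin 2) F) = 1 := by
  have := (H160.PSLTwo.mk_pow_eq_one_iff A 1).2 (by rwa [pow_one])
  rwa [pow_one] at this

theorem exists_rel (hF : Fintype.card F = 23) : ∃ x y t : ProjectiveSpecialLinearGroup (Fin 2) F,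
    Rel x y t ∧ _root_.Subgroup.closure {x, y, t} = ⊤ ∧ x ≠ 1 := by
  have hcp := charP hF
  have h23 : (23 : F) = 0 := by exact_mod_cast CharP.cast_eq_zero F 23
  let Y : _root_.Matrix.SpecialLinearGroup (Fin 2) F := ⟨!![4, 0; 0, 6], by
    rw [Matrix.det_fin_two]; simp only [_root_.Fin.isValue, _root_.Matrix.of_apply, _root_.Matrix.cons_val', _root_.Matrix.cons_val_zero, _root_.Matrix.cons_val_fin_one, _root_.Matrix.cons_val_one, _root_.MulZeroClass.mul_zero, _root_.sub_zero]; linear_combination h23⟩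
  have hY : (Y : Matrix (Fin 2) (Fin 2) F) = !![4, 0; 0, 6] := rfl
  let π : _root_.Matrix.SpecialLinearGroup (Fin 2) F →* ProjectiveSpecialLinearGroup (Fin 2) F := QuotientGroup.mk' _
  have hπ : Function.Surjective π := QuotientGroup.mk'_surjective _
  have hone : ∀ A : _root_.Matrix.SpecialLinearGroup (Fin 2) F, ((A : Matrix (Fin 2) (Fin 2) F) = 1 ∨
      (A : Matrix (Fin 2) (Fin 2) F) = -1) → π A = 1 := fun A h => mk_eq_one h
  have hYpow : ∀ n : ℕ, ((Y ^ n : _root_.Matrix.SpecialLinearGroup (Fin 2) F) : Matrix (Fin 2) (Fin 2) F) = !![4 ^ n, 0; 0, 6 ^ n] := by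
    intro n
    induction n with
    | zero =>
      rw [pow_zero, pow_zero, pow_zero, Matrix.SpecialLinearGroup.coe_one, Matrix.one_fin_two]
    | succ n ih =>
      rw [pow_succ, Matrix.SpecialLinearGroup.coe_mul, ih, hY, Matrix.mul_fin_two]
      apply mat_ext <;> ring
  refine ⟨π (mx F), π Y, π (mt F), ⟨?_, ?_, ?_, ?_, ?_, ?_⟩, ?_, ?_⟩
  · rw [← map_pow, mx_pow]
    apply hone
    left
    rw [coe_mu, Matrix.one_fin_two]
    apply mat_ext rfl _ rfl rfl
    exact CharP.cast_eq_zero F 23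
  · rw [← map_pow]
    apply hone
    left
    rw [hYpow, Matrix.one_fin_two]
    apply mat_ext
    · linear_combination 182361 * h23
    · rfl
    · rfl
    · linear_combination 15773785 * h23
  · rw [← map_inv, ← map_mul, ← map_mul, ← map_pow, mx_pow]
    congr 1
    rw [mul_inv_eq_iff_eq_mul]
    apply Subtype.ext
    rw [Matrix.SpecialLinearGroup.coe_mul, Matrix.SpecialLinearGroup.coe_mul, hY, coe_mx, coe_mu,
      Matrix.mul_fin_two, Matrix.mul_fin_two]
    apply mat_ext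
    · ring
    · push_cast
      linear_combination (-4) * h23
    · ring
    · ring
  · rw [← map_mul]
    apply hone
    right
    rw [Matrix.SpecialLinearGroup.coe_mul, coe_mt, Matrix.mul_fin_two, Matrix.one_fin_two]
    ext i j
    (revert i j; simp only [_root_.Fin.forall_fin_succ, _root_.MulZeroClass.mul_zero, _root_.mul_neg, _root_.mul_one, _root_.zero_add, _root_.add_zero, _root_.neg_zero, _root_.Matrix.of_apply, _root_.Matrix.cons_val', _root_.Matrix.cons_val_fin_one, _root_.Matrix.neg_apply, Fin.isValue, _root_.Matrix.cons_val_zero, _root_.Matrix.cons_val_succ, _root_.forall_const, _root_.and_self, _root_.implies_true])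
  · rw [eq_inv_iff_mul_eq_one, ← map_mul, ← map_mul, ← map_mul]
    apply hone
    right
    rw [Matrix.SpecialLinearGroup.coe_mul, Matrix.SpecialLinearGroup.coe_mul, Matrix.SpecialLinearGroup.coe_mul,
      coe_mt, hY, Matrix.mul_fin_two, Matrix.mul_fin_two, Matrix.mul_fin_two, Matrix.one_fin_two]
    ext i j
    fin_cases i <;> fin_cases j
    · simp only [_root_.MulZeroClass.zero_mul, _root_.MulZeroClass.mul_zero, _root_.add_zero, _root_.one_mul, _root_.zero_add, _root_.mul_neg, _root_.mul_one, _root_.neg_mul, _root_.neg_zero, _root_.Fin.zero_eta, _root_.Fin.isValue, _root_.Matrix.of_apply, _root_.Matrix.cons_val', _root_.Matrix.cons_val_zero, _root_.Matrix.cons_val_fin_one, _root_.Matrix.neg_apply, _root_.neg_inj]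
      first | linear_combination (-1) * h23 | linear_combination h23
    · simp
    · simp
    · simp
      first | linear_combination (-1) * h23 | linear_combination h23
  · rw [← map_mul, ← map_pow]
    apply hone
    left
    rw [pow_succ, pow_two, Matrix.SpecialLinearGroup.coe_mul, Matrix.SpecialLinearGroup.coe_mul,
      Matrix.SpecialLinearGroup.coe_mul, coe_mx, coe_mt, Matrix.mul_fin_two, Matrix.mul_fin_two, Matrix.mul_fin_two,
      Matrix.one_fin_two]
    apply mat_ext <;> ring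
  · rw [eq_top_iff, ← MonoidHom.range_eq_top.2 hπ, MonoidHom.range_eq_map, ← closure_sl (exists_nat hF), MonoidHom.map_closure]
    apply Subgroup.closure_mono
    rintro _ ⟨A, (rfl | rfl), rfl⟩
    · simp
    · simp
  · intro h
    have h1 := (H160.PSLTwo.mk_pow_eq_one_iff (mx F) 1).1 (by rw [pow_one]; exact h)
    rw [pow_one] at h1
    rcases h1 with h1 | h1
    · have h2 := congrFun (congrFun h1 0) 1
      simp [mx] at h2
    · have h2 := congrFun (congrFun h1 0) 1
      simp [mx] at h2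

theorem card_psl (hF : Fintype.card F = 23) : Nat.card (ProjectiveSpecialLinearGroup (Fin 2) F) = 6072 := by
  have h1 := ClassicalGeometry.PSL2Basic.card_PSL2_odd F (by rw [hF]; decide)
  rw [hF] at h1
  omega

theorem simple_psl (hF : Fintype.card F = 23) : IsSimpleGroup (ProjectiveSpecialLinearGroup (Fin 2) F) :=
  TwoFusion.SLTwoFacts.isSimpleGroup_psl (by rw [hF]; norm_num)

theorem iso_of {P : Type*} [Group P] (hs : IsSimpleGroup P) (hcP : Nat.card P = 6072) {x' y' t' : P}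
    (h' : Rel x' y' t') (hc : _root_.Subgroup.closure {x', y', t'} = ⊤) {G : Type*} [Group G] {x y t : G} (h : Rel x y t)
    (hx : x ≠ 1) : Nonempty (closure {x, y, t} ≃* P) := by
  have hR : Rel (x, x') (y, y') (t, t') := by
    refine ⟨?_, ?_, ?_, ?_, ?_, ?_⟩
    · exact Prod.ext h.x23 h'.x23
    · exact Prod.ext h.y11 h'.y11
    · exact Prod.ext h.yx h'.yx
    · exact Prod.ext h.t2 h'.t2
    · exact Prod.ext h.ty h'.ty
    · exact Prod.ext h.xt h'.xt
  let Γ : Subgroup (G × P) := _root_.Subgroup.closure {(x, x'), (y, y'), (t, t')}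
  have hfin : Finite Γ := hR.finite
  have hle : Nat.card Γ ≤ 6072 := hR.card_le
  have hm2 : Γ.map (MonoidHom.snd G P) = ⊤ := by
    rw [MonoidHom.map_closure, ← hc]
    congr 1
    ext g
    simp only [eq_comm, _root_.MonoidHom.coe_snd, _root_.Set.mem_image, _root_.Set.mem_insert_iff, _root_.Set.mem_singleton_iff, _root_.exists_eq_or_imp, ↓ _root_.ExistsAndEq.existsAndEq, _root_.true_and]
  have hm1 : Γ.map (MonoidHom.fst G P) = _root_.Subgroup.closure {x, y, t} := by
    rw [MonoidHom.map_closure]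
    congr 1
    ext g
    simp only [eq_comm, _root_.MonoidHom.coe_fst, _root_.Set.mem_image, _root_.Set.mem_insert_iff, _root_.Set.mem_singleton_iff, _root_.exists_eq_or_imp, ↓ _root_.ExistsAndEq.existsAndEq, _root_.true_and]
  let f2 : Γ →* P := (MonoidHom.snd G P).comp Γ.subtype
  have hf2 : Function.Surjective f2 := by
    rw [← MonoidHom.range_eq_top, MonoidHom.range_eq_map]
    show (⊤ : Subgroup Γ).map ((MonoidHom.snd G P).comp Γ.subtype) = ⊤
    rw [← Subgroup.map_map, ← MonoidHom.range_eq_map, range_subtype, hm2]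
  have hcard : Nat.card Γ = Nat.card P := by
    apply le_antisymm (by rw [hcP]; exact hle)
    exact Nat.card_le_card_of_surjective f2 hf2
  have hb2 : Function.Bijective f2 := (Nat.bijective_iff_surjective_and_card f2).2 ⟨hf2, hcard⟩
  let e2 : Γ ≃* P := MulEquiv.ofBijective f2 hb2
  have hsΓ : IsSimpleGroup Γ := (MulEquiv.isSimpleGroup_congr e2).2 hs
  let f1 : Γ →* G := (MonoidHom.fst G P).comp Γ.subtype
  have hf1 : f1.range = _root_.Subgroup.closure {x, y, t} := by
    rw [MonoidHom.range_eq_map]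
    show (⊤ : Subgroup Γ).map ((MonoidHom.fst G P).comp Γ.subtype) = _
    rw [← Subgroup.map_map, ← MonoidHom.range_eq_map, range_subtype, hm1]
  have hi1 : Function.Injective f1 := by
    rw [← MonoidHom.ker_eq_bot_iff]
    rcases hsΓ.eq_bot_or_eq_top_of_normal f1.ker inferInstance with h0 | h0
    · exact h0
    · exfalso
      have hxm : (x, x') ∈ Γ := _root_.Subgroup.subset_closure (by simp)
      have h1 : (⟨(x, x'), hxm⟩ : Γ) ∈ f1.ker := by rw [h0]; exact mem_top _
      exact hx (MonoidHom.mem_ker.1 h1)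
  let e1 : Γ ≃* f1.range := MonoidHom.ofInjective hi1
  exact ⟨(MulEquiv.subgroupCongr hf1.symm).trans (e1.symm.trans e2)⟩

/-- **The presentation of `PSL(2, 23)`.** -/
theorem iso (hF : Fintype.card F = 23) {G : Type*} [Group G] {x y t : G} (h : Rel x y t) (hx : x ≠ 1) :
    Nonempty (closure {x, y, t} ≃* ProjectiveSpecialLinearGroup (Fin 2) F) := by
  obtain ⟨x', y', t', h', hc, -⟩ := exists_rel hF
  exact iso_of (simple_psl hF) (card_psl hF) h' hc h hx

theorem card_closure {G : Type*} [Group G] {x y t : G} (h : Rel x y t) (hx : x ≠ 1) :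
    Nat.card (closure {x, y, t}) = 6072 := by
  have hF : Fintype.card (ZMod 23) = 23 := ZMod.card 23
  have : Fact (Nat.Prime 23) := ⟨by norm_num⟩
  obtain ⟨e⟩ := iso hF h hx
  rw [Nat.card_congr e.toEquiv, card_psl hF]

end Cfsg.Agent.H995.LB
end

private theorem dce_9c1c1bfe251d : _root_.True := by
  try have : _root_.True := by simp only [_root_.Cfsg.Agent.H995.LB.mx.eq_1]
  exact _root_.True.intro
end

-- part: H995/LB/Red
section
prune_inst 0x300000102202000000000000003c0292000100000b0001d10004000486180100400e20f8200a021128082400340048111000090210000020000200411c01a0802a50020200a10406000900b803180c00000000000000000000000000041004000000000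
set_option linter.all false
open scoped Cfsg.Agent.FastGrp

/-!
# Reduction of the triples of the presentation of `PSL(2, 23)` (helper995, for S5524)
-/

set_option autoImplicit false

namespace Cfsg.Agent.H995.LB

open Subgroup

section sylow

variable {G : Type*} [Group G] [Finite G] {p : ℕ} [Fact p.Prime]

theorem sylow_eq (hp : ¬ p ^ 2 ∣ Nat.card G) {c : G} (hc : orderOf c = p) :
    ∃ Q : Sylow p G, (Q : Subgroup G) = zpowers c := by
  have h1 : IsPGroup p (zpowers c) := IsPGroup.of_card (n := 1) (by rw [Nat.card_zpowers, hc, pow_one])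
  obtain ⟨Q, hQ⟩ := h1.exists_le_sylow
  refine ⟨Q, (Subgroup.eq_of_le_of_card_ge hQ ?_).symm⟩
  rw [Nat.card_zpowers, hc]
  obtain ⟨n, hn⟩ := IsPGroup.iff_card.1 Q.2
  have hn2 : n < 2 := by
    by_contra h
    exact hp ((pow_dvd_pow p (by omega)).trans (hn ▸ Subgroup.card_subgroup_dvd_card (Q : Subgroup G)))
  rw [hn]
  calc p ^ n ≤ p ^ 1 := Nat.pow_le_pow_right (Fact.out : p.Prime).pos (by omega)
    _ = p := pow_one p

theorem conj_prime (hp : ¬ p ^ 2 ∣ Nat.card G) {a b : G} (ha : orderOf a = p) (hb : orderOf b = p) :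
    ∃ g : G, g * a * g⁻¹ ∈ zpowers b := by
  obtain ⟨Q, hQ⟩ := sylow_eq hp ha
  obtain ⟨R, hR⟩ := sylow_eq hp hb
  obtain ⟨g, hg⟩ := MulAction.exists_smul_eq G Q R
  refine ⟨g, ?_⟩
  have h1 : a ∈ (Q : Subgroup G) := by rw [hQ]; exact mem_zpowers a
  have h2 : g * a * g⁻¹ ∈ ((g • Q : Sylow p G) : Subgroup G) := by
    rw [Sylow.coe_subgroup_smul]
    exact ⟨a, h1, rfl⟩
  rw [hg, hR] at h2
  exact h2

theorem conj_prime_in (hp : ¬ p ^ 2 ∣ Nat.card G) (N : Subgroup G) {a b : G} (haN : a ∈ N) (hbN : b ∈ N)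
    (ha : orderOf a = p) (hb : orderOf b = p) : ∃ g ∈ N, g * a * g⁻¹ ∈ zpowers b := by
  have hpN : ¬ p ^ 2 ∣ Nat.card N := fun h => hp (h.trans (Subgroup.card_subgroup_dvd_card N))
  obtain ⟨g, hg⟩ := conj_prime (a := (⟨a, haN⟩ : N)) (b := ⟨b, hbN⟩) hpN (by rw [← orderOf_submonoid] at *; exact ha)
    (by rw [← orderOf_submonoid] at *; exact hb)
  refine ⟨g, g.2, ?_⟩
  obtain ⟨n, hn⟩ := mem_zpowers_iff.1 hg
  exact mem_zpowers_iff.2 ⟨n, by simpa using congrArg Subtype.val hn⟩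

end sylow

namespace Rel

variable {G H : Type*} [Group G] [Group H] {x y t : G}

theorem map (h : Rel x y t) (f : G →* H) : Rel (f x) (f y) (f t) where
  x23 := by rw [← map_pow, h.x23, map_one]
  y11 := by rw [← map_pow, h.y11, map_one]
  yx := by rw [← map_inv, ← map_mul, ← map_mul, h.yx, map_pow]
  t2 := by rw [← map_mul, h.t2, map_one]
  ty := by rw [← map_mul, ← map_mul, h.ty, map_inv]
  xt := by rw [← map_mul, ← map_pow, h.xt, map_one]

end Rel

theorem map_closure3 {G H : Type*} [Group G] [Group H] (f : G →* H) (x y t : G) :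
    (closure {x, y, t}).map f = closure {f x, f y, f t} := by
  rw [MonoidHom.map_closure, Set.image_insert_eq, Set.image_insert_eq, Set.image_singleton]

theorem closure_inv3 {G : Type*} [Group G] (x y t : G) : closure {x⁻¹, y, t} = closure {x, y, t} := by
  apply le_antisymm
  · rw [closure_le]
    intro s hs
    rcases hs with rfl | hs
    · exact inv_mem (subset_closure (Set.mem_insert _ _))
    · exact subset_closure (Set.mem_insert_of_mem _ hs)
  · rw [closure_le]
    intro s hs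
    rcases hs with rfl | hs
    · have h7 : s⁻¹ ∈ closure {s⁻¹, y, t} := subset_closure (Set.mem_insert _ _)
      exact (inv_mem_iff (x := s)).1 h7
    · exact subset_closure (Set.mem_insert_of_mem _ hs)

theorem map_conj_closure {G : Type*} [Group G] (c x y t : G) :
    (closure {x, y, t}).map (MulAut.conj c).toMonoidHom = closure {c * x * c⁻¹, c * y * c⁻¹, c * t * c⁻¹} :=
  map_closure3 _ _ _ _

theorem map_conj_mul {G : Type*} [Group G] (g c : G) (S : Subgroup G) :
    S.map (MulAut.conj (g * c)).toMonoidHom = (S.map (MulAut.conj c).toMonoidHom).map (MulAut.conj g).toMonoidHom := by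
  rw [Subgroup.map_map]
  congr 1
  refine MonoidHom.ext fun s => ?_
  show g * c * s * (g * c)⁻¹ = g * (c * s * c⁻¹) * g⁻¹
  group

/-- The configuration. -/
structure Conf {G : Type*} [Group G] (X P d : G) (K : Subgroup G) : Prop where
  x23 : X ^ 23 = 1
  x_ne : X ≠ 1
  y11 : P ^ 11 = 1
  yx : P * X * P⁻¹ = X ^ 16
  dd : d * d = 1
  dy : d * P * d = P⁻¹
  kP : ∀ k ∈ K, k * P = P * k
  kd : ∀ k ∈ K, k * d = d * k
  cent : ∀ g, g * P = P * g → ∃ k ∈ K, ∃ n : ℕ, g = P ^ n * k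
  cop : Nat.Coprime (Nat.card K) 11

namespace Conf

variable {G : Type*} [Group G] {X P d : G} {K : Subgroup G} (C : Conf X P d K)

include C

theorem ordX : orderOf X = 23 := by
  have : Fact (Nat.Prime 23) := ⟨by norm_num⟩
  exact orderOf_eq_prime C.x23 C.x_ne

theorem P_ne : P ≠ 1 := by
  intro h
  have h1 := C.yx
  rw [h, one_mul, inv_one, mul_one] at h1
  have h2 : X ^ 15 = 1 := by
    have h3 : X ^ 15 * X = X := by rw [← pow_succ]; exact h1.symm
    exact mul_eq_right.1 h3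
  have h3 := orderOf_dvd_of_pow_eq_one h2
  rw [C.ordX] at h3
  exact absurd h3 (by norm_num)

theorem ordP : orderOf P = 11 := by
  have : Fact (Nat.Prime 11) := ⟨by norm_num⟩
  exact orderOf_eq_prime C.y11 C.P_ne

theorem xmod {a b : ℕ} (hab : a % 23 = b % 23) : X ^ a = X ^ b := by
  rw [← Nat.mod_add_div a 23, ← Nat.mod_add_div b 23, hab, pow_add, pow_add, pow_mul, pow_mul, C.x23,
    one_pow, one_pow]

theorem mod_of {a b : ℕ} (hab : X ^ a = X ^ b) : a % 23 = b % 23 := by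
  have := pow_inj_mod.1 hab
  rwa [C.ordX] at this

theorem ymod {a b : ℕ} (hab : a % 11 = b % 11) : P ^ a = P ^ b := by
  rw [← Nat.mod_add_div a 11, ← Nat.mod_add_div b 11, hab, pow_add, pow_add, pow_mul, pow_mul, C.y11,
    one_pow, one_pow]

theorem yx_pow (m n : ℕ) : P ^ m * X ^ n = X ^ (16 ^ m * n) * P ^ m := by
  have h1 : ∀ n, P * X ^ n = X ^ (16 * n) * P := by
    intro n
    have h2 : (P * X * P⁻¹) ^ n = X ^ (16 * n) := by rw [C.yx, ← pow_mul]
    rw [conj_pow] at h2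
    rw [← h2]
    group
  induction m generalizing n with
  | zero => simp
  | succ m ih =>
    rw [pow_succ, mul_assoc, h1, ← mul_assoc, ih, mul_assoc, ← pow_succ,
      show 16 ^ m * (16 * n) = 16 ^ (m + 1) * n by ring]

theorem conj_pow' (m n : ℕ) : P ^ m * X ^ n * (P ^ m)⁻¹ = X ^ (16 ^ m * n) := by
  rw [C.yx_pow, mul_inv_cancel_right]

/-- an element normalising both acts trivially on `⟨P⟩` -/
theorem norm_P {x y : G} (hy : y * x * y⁻¹ = x ^ 16) {b j : ℕ} (hx : x = X ^ b) (hb : b % 23 ≠ 0)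
    (hyj : y = P ^ j) : y = P := by
  subst hx
  subst hyj
  rw [C.conj_pow', ← pow_mul] at hy
  have h1 := C.mod_of hy
  have hj : 16 ^ j % 23 = 16 ^ (j % 11) % 23 := by
    conv_lhs => rw [← Nat.mod_add_div j 11, pow_add, pow_mul, Nat.mul_mod, Nat.pow_mod (16 ^ 11),
      show (16 ^ 11) % 23 = 1 by norm_num, one_pow]
    simp
  have h2 : j % 11 = 1 := by
    have h3 : 16 ^ (j % 11) % 23 * (b % 23) % 23 = (b % 23) * 16 % 23 := by
      rw [← hj, ← Nat.mul_mod, h1]
      simp [Nat.mul_mod]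
    have h4 : ∀ i : Fin 11, ∀ c : Fin 23, c.1 ≠ 0 → 16 ^ i.1 % 23 * c.1 % 23 = c.1 * 16 % 23 → i.1 = 1 := by
      decide +kernel
    exact h4 ⟨j % 11, Nat.mod_lt _ (by norm_num)⟩ ⟨b % 23, Nat.mod_lt _ (by norm_num)⟩ hb h3
  rw [C.ymod (a := j) (b := 1) (by omega), pow_one]

theorem pow_ne {x : G} (hx : x ∈ zpowers X) (hne : x ≠ 1) : ∃ a : ℕ, a % 23 ≠ 0 ∧ x = X ^ a := by
  obtain ⟨n, hn⟩ := mem_zpowers_iff.1 hx
  have h1 : x = X ^ (n % 23).toNat := by
    rw [← zpow_natCast, Int.toNat_of_nonneg (Int.emod_nonneg _ (by norm_num)), ← hn]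
    have h2 : X ^ (23 : ℤ) = 1 := by exact_mod_cast C.x23
    conv_lhs => rw [← Int.emod_add_mul_ediv n 23, zpow_add, zpow_mul, h2, one_zpow, mul_one]
  refine ⟨_, ?_, h1⟩
  intro h2
  apply hne
  rw [h1, C.xmod (a := (n % 23).toNat) (b := 0) (by simpa using h2), pow_zero]

theorem pow_of_X {y : G} (hy : y ∈ zpowers X) : ∃ j : ℕ, y = X ^ j := by
  by_cases h : y = 1
  · exact ⟨0, by rw [h, pow_zero]⟩
  · obtain ⟨a, -, ha⟩ := C.pow_ne hy h
    exact ⟨a, ha⟩

theorem pow_of_P {y : G} (hy : y ∈ zpowers P) : ∃ j : ℕ, y = P ^ j := by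
  obtain ⟨n, hn⟩ := mem_zpowers_iff.1 hy
  refine ⟨(n % 11).toNat, ?_⟩
  rw [← zpow_natCast, Int.toNat_of_nonneg (Int.emod_nonneg _ (by norm_num)), ← hn]
  have h2 : P ^ (11 : ℤ) = 1 := by exact_mod_cast C.y11
  conv_lhs => rw [← Int.emod_add_mul_ediv n 11, zpow_add, zpow_mul, h2, one_zpow, mul_one]

theorem dP (n : ℕ) : d * P ^ n = P ^ (10 * n) * d := by
  have h1 : d * P = P ^ 10 * d := by
    have h2 : P ^ 10 = P⁻¹ := by
      rw [eq_inv_iff_mul_eq_one, ← pow_succ]; exact C.y11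
    rw [h2, ← C.dy, mul_assoc, C.dd, mul_one]
  induction n with
  | zero => simp
  | succ m ih =>
    rw [pow_succ, ← mul_assoc, ih, mul_assoc, h1, ← mul_assoc, ← pow_add]
    congr 2

/-- Step C -/
theorem stepC {x t : G} (h : Rel x P t) (hxX : x ∈ zpowers X) (hx : x ≠ 1) :
    ∃ g : G, ∃ k ∈ K, k * k = 1 ∧ ∃ j : ℕ, j < 11 ∧ (X * (P ^ j * d * k)) ^ 3 = 1 ∧
      (closure {x, P, t}).map (MulAut.conj g).toMonoidHom = closure {X, P, P ^ j * d * k} := by
  -- `t = P ^ j d k`
  have hdt : (d * t) * P = P * (d * t) := by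
    have h1 : t * P = P⁻¹ * t := by
      rw [← h.ty, mul_assoc, h.t2, mul_one]
    have h2 : d * P⁻¹ = P * d := by
      rw [← C.dy, ← mul_assoc, ← mul_assoc, C.dd, one_mul]
    rw [mul_assoc, h1, ← mul_assoc, h2, mul_assoc]
  obtain ⟨k, hk, n, hn⟩ := C.cent _ hdt
  have ht : t = P ^ (10 * n) * d * k := by
    have h1 : t = d * (d * t) := by rw [← mul_assoc, C.dd, one_mul]
    rw [h1, hn, ← mul_assoc, C.dP]
  have hkd := C.kd k hk
  have hkP : ∀ m, k * P ^ m = P ^ m * k := fun m => (Commute.pow_right (C.kP k hk) m)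
  have hkk : k * k = 1 := by
    have h1 := h.t2
    rw [ht] at h1
    have h2 : P ^ (10 * n) * d * k * (P ^ (10 * n) * d * k) = k * k := by
      calc P ^ (10 * n) * d * k * (P ^ (10 * n) * d * k) = P ^ (10 * n) * d * (k * P ^ (10 * n)) * d * k := by
            simp only [mul_assoc]
        _ = P ^ (10 * n) * (d * P ^ (10 * n)) * (k * d) * k := by rw [hkP]; simp only [mul_assoc]
        _ = P ^ (10 * n) * P ^ (10 * (10 * n)) * (d * d) * k * k := by rw [C.dP, hkd]; simp only [mul_assoc]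
        _ = k * k := by
          rw [← pow_add, C.dd, C.ymod (a := 10 * n + 10 * (10 * n)) (b := 0) (by omega), pow_zero, one_mul, one_mul]
    rw [h2] at h1
    exact h1
  -- `x = X ^ (± 16 ^ m)`
  obtain ⟨a, ha, hxa⟩ := C.pow_ne hxX hx
  have h1 : ∀ a : Fin 23, a ≠ 0 → ∃ m : Fin 11, (16 ^ m.1 % 23 = a.1 ∨ 22 * 16 ^ m.1 % 23 = a.1) := by
    decide
  obtain ⟨m, hm⟩ := h1 ⟨a % 23, Nat.mod_lt _ (by norm_num)⟩ (fun h => ha (congrArg Fin.val h))
  -- the new triple
  set g : G := (P ^ m.1)⁻¹ with hg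
  have hgP : g * P * g⁻¹ = P := by
    rw [hg, inv_inv, mul_assoc, ← pow_succ', pow_succ, ← mul_assoc, inv_mul_cancel, one_mul]
  have hgt : g * t * g⁻¹ = P ^ ((9 * m.1 + 10 * n) % 11) * d * k := by
    have h2 : g = P ^ (10 * m.1) := by
      rw [hg, inv_eq_iff_mul_eq_one, ← pow_add, C.ymod (a := m.1 + 10 * m.1) (b := 0) (by omega), pow_zero]
    have h3 : g⁻¹ = P ^ m.1 := by rw [hg, inv_inv]
    rw [h3, h2, ht]
    calc P ^ (10 * m.1) * (P ^ (10 * n) * d * k) * P ^ m.1 = P ^ (10 * m.1) * P ^ (10 * n) * d * (k * P ^ m.1) := by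
          simp only [mul_assoc]
      _ = P ^ (10 * m.1) * P ^ (10 * n) * (d * P ^ m.1) * k := by rw [hkP]; simp only [mul_assoc]
      _ = (P ^ (10 * m.1) * P ^ (10 * n) * P ^ (10 * m.1)) * d * k := by rw [C.dP]; simp only [mul_assoc]
      _ = _ := by
        rw [← pow_add, ← pow_add, C.ymod (a := 10 * m.1 + 10 * n + 10 * m.1) (b := (9 * m.1 + 10 * n) % 11) (by omega)]
  have h2 : Rel (g * x * g⁻¹) (g * P * g⁻¹) (g * t * g⁻¹) := h.map (MulAut.conj g).toMonoidHom
  have hmap : (closure {x, P, t}).map (MulAut.conj g).toMonoidHom =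
      closure {g * x * g⁻¹, g * P * g⁻¹, g * t * g⁻¹} := map_closure3 _ _ _ _
  rw [hgP, hgt] at h2 hmap
  set t' := P ^ ((9 * m.1 + 10 * n) % 11) * d * k with ht'
  have hmm : P ^ m.1 * X * (P ^ m.1)⁻¹ = X ^ (16 ^ m.1) := by
    have := C.conj_pow' m.1 1
    rwa [pow_one, mul_one] at this
  refine ⟨g, k, hk, hkk, (9 * m.1 + 10 * n) % 11, Nat.mod_lt _ (by norm_num), ?_, ?_⟩
  · rcases hm with hm | hm
    · have h3 : g * x * g⁻¹ = X := by
        rw [hxa, C.xmod (a := a) (b := 16 ^ m.1) hm.symm, ← hmm, hg]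
        group
      rw [h3] at h2
      exact h2.xt
    · have h3 : g * x * g⁻¹ = X⁻¹ := by
        have h4 : x = (X ^ (16 ^ m.1))⁻¹ := by
          rw [eq_inv_iff_mul_eq_one, hxa, ← pow_add]
          have hm' : 22 * 16 ^ m.1 % 23 = a % 23 := hm
          have h5 : (a + 16 ^ m.1) % 23 = 0 := by omega
          rw [C.xmod (a := a + 16 ^ m.1) (b := 0) h5, pow_zero]
        rw [h4, ← hmm, hg]
        group
      rw [h3] at h2
      have h4 := h2.xt
      have h5 := h2.t_inv
      have h6 : (X * t') ^ 3 = X * ((X⁻¹ * t') ^ 3)⁻¹ * X⁻¹ := by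
        rw [← inv_pow, mul_inv_rev, inv_inv, h5, ← conj_pow]
        congr 1
        group
      rw [h6, h4, inv_one, mul_one, mul_inv_cancel]
  · rw [hmap]
    rcases hm with hm | hm
    · have h3 : g * x * g⁻¹ = X := by
        rw [hxa, C.xmod (a := a) (b := 16 ^ m.1) hm.symm, ← hmm, hg]
        group
      rw [h3]
    · have h3 : g * x * g⁻¹ = X⁻¹ := by
        have h4 : x = (X ^ (16 ^ m.1))⁻¹ := by
          rw [eq_inv_iff_mul_eq_one, hxa, ← pow_add]
          have hm' : 22 * 16 ^ m.1 % 23 = a % 23 := hm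
          have h5 : (a + 16 ^ m.1) % 23 = 0 := by omega
          rw [C.xmod (a := a + 16 ^ m.1) (b := 0) h5, pow_zero]
        rw [h4, ← hmm, hg]
        group
      rw [h3, closure_inv3]

/-- The conclusion of the reduction. -/
def Concl (X P d : G) (K : Subgroup G) (x y t : G) : Prop :=
  ∃ g : G, ∃ k ∈ K, k * k = 1 ∧ ∃ j : ℕ, j < 11 ∧ (X * (P ^ j * d * k)) ^ 3 = 1 ∧
    (closure {x, y, t}).map (MulAut.conj g).toMonoidHom = closure {X, P, P ^ j * d * k}

omit C in
theorem Concl.of_conj {x y t c : G} (h : Concl X P d K (c * x * c⁻¹) (c * y * c⁻¹) (c * t * c⁻¹)) :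
    Concl X P d K x y t := by
  obtain ⟨g, k, hk, hkk, j, hj, h3, hm⟩ := h
  refine ⟨g * c, k, hk, hkk, j, hj, h3, ?_⟩
  rw [← hm, ← map_conj_closure, ← map_conj_mul]

/-- Step B -/
theorem stepB {x y t : G} (h : Rel x y t) (hxX : x ∈ zpowers X) (hx : x ≠ 1) (hy : y ∈ zpowers P) :
    Concl X P d K x y t := by
  obtain ⟨a, ha, hxa⟩ := C.pow_ne hxX hx
  obtain ⟨j, hj⟩ := C.pow_of_P hy
  have h1 := C.norm_P h.yx hxa ha hj
  subst h1
  exact C.stepC h hxX hx

theorem mem_norm_P : P ∈ normalizer (zpowers X : Set G) := by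
  rw [mem_normalizer_iff_map_conj_eq, MonoidHom.map_zpowers]
  show zpowers (P * X * P⁻¹) = zpowers X
  rw [C.yx]
  apply le_antisymm
  · rw [zpowers_le]; exact pow_mem (mem_zpowers X) _
  · rw [zpowers_le]
    refine mem_zpowers_iff.2 ⟨13, ?_⟩
    have h1 : (X ^ 16) ^ 13 = X := by
      rw [← pow_mul, C.xmod (a := 16 * 13) (b := 1) (by norm_num), pow_one]
    exact_mod_cast h1

/-- Step A -/
theorem stepA [Finite G] (h11 : ¬ 11 ^ 2 ∣ Nat.card G) {x y t : G} (h : Rel x y t) (hxX : x ∈ zpowers X)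
    (hx : x ≠ 1) : Concl X P d K x y t := by
  obtain ⟨a, ha, hxa⟩ := C.pow_ne hxX hx
  have : Fact (Nat.Prime 11) := ⟨by norm_num⟩
  have : Fact (Nat.Prime 23) := ⟨by norm_num⟩
  have hordx : orderOf x = 23 := orderOf_eq_prime h.x23 hx
  have hzx : zpowers x = zpowers X := by
    apply Subgroup.eq_of_le_of_card_ge
    · rw [zpowers_le]; exact hxX
    · rw [Nat.card_zpowers, Nat.card_zpowers, hordx, C.ordX]
  have hy1 : y ≠ 1 := by
    intro h0
    have h1 := h.yx
    rw [h0, one_mul, inv_one, mul_one] at h1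
    have h2 : x ^ 15 = 1 := by
      have h3 : x ^ 15 * x = x := by rw [← pow_succ]; exact h1.symm
      exact mul_eq_right.1 h3
    have h3 := orderOf_dvd_of_pow_eq_one h2
    rw [hordx] at h3
    exact absurd h3 (by norm_num)
  have hordy : orderOf y = 11 := orderOf_eq_prime h.y11 hy1
  have hyN : y ∈ normalizer (zpowers X : Set G) := by
    rw [mem_normalizer_iff_map_conj_eq, ← hzx, MonoidHom.map_zpowers]
    show zpowers (y * x * y⁻¹) = zpowers x
    rw [h.yx]
    apply le_antisymm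
    · rw [zpowers_le]; exact pow_mem (mem_zpowers x) _
    · rw [zpowers_le]
      refine mem_zpowers_iff.2 ⟨13, ?_⟩
      have h1 : (x ^ 16) ^ 13 = x := by
        rw [← pow_mul, h.xmod (a := 16 * 13) (b := 1) (by norm_num), pow_one]
      exact_mod_cast h1
  obtain ⟨g, hgN, hg⟩ := conj_prime_in h11 _ hyN C.mem_norm_P hordy C.ordP
  apply Concl.of_conj (c := g)
  have h1 : Rel (g * x * g⁻¹) (g * y * g⁻¹) (g * t * g⁻¹) := h.map (MulAut.conj g).toMonoidHom
  refine C.stepB h1 ?_ ?_ hg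
  · exact (mem_normalizer_iff.1 hgN x).1 hxX
  · intro h0
    rw [mul_inv_eq_one, mul_eq_left] at h0
    exact hx h0

/-- **The reduction.** -/
theorem red [Finite G] (h11 : ¬ 11 ^ 2 ∣ Nat.card G) (h23 : ¬ 23 ^ 2 ∣ Nat.card G) {x y t : G} (h : Rel x y t)
    (hx : x ≠ 1) : Concl X P d K x y t := by
  have : Fact (Nat.Prime 23) := ⟨by norm_num⟩
  have hordx : orderOf x = 23 := orderOf_eq_prime h.x23 hx
  obtain ⟨g, hg⟩ := conj_prime h23 hordx C.ordX
  apply Concl.of_conj (c := g)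
  have h1 : Rel (g * x * g⁻¹) (g * y * g⁻¹) (g * t * g⁻¹) := h.map (MulAut.conj g).toMonoidHom
  refine C.stepA h11 h1 hg ?_
  intro h0
  rw [mul_inv_eq_one, mul_eq_left] at h0
  exact hx h0

/-- **The normaliser.** -/
theorem normalizer_eq [Finite G] (h11 : ¬ 11 ^ 2 ∣ Nat.card G) (h23 : ¬ 23 ^ 2 ∣ Nat.card G) {s : G}
    (hs : s ∈ K) (h : Rel X P (d * s)) (hc : Nat.card (closure {X, P, d * s}) = 6072)
    (hk : ∀ k ∈ K, k * s = s * k → k ∈ normalizer (zpowers X : Set G) → k = 1) :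
    normalizer (closure {X, P, d * s} : Set G) = closure {X, P, d * s} := by
  have : Fact (Nat.Prime 11) := ⟨by norm_num⟩
  have : Fact (Nat.Prime 23) := ⟨by norm_num⟩
  set H : Subgroup G := closure {X, P, d * s} with hH
  have hX : X ∈ H := subset_closure (by simp)
  have hP : P ∈ H := subset_closure (by simp)
  have ht : d * s ∈ H := subset_closure (by simp)
  refine le_antisymm ?_ le_normalizer
  -- an element of the normaliser normalising `⟨X⟩` and `⟨P⟩`
  have key : ∀ g ∈ normalizer (H : Set G), g * X * g⁻¹ ∈ zpowers X → g * P * g⁻¹ ∈ zpowers P → g ∈ H := by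
    intro g hg hgX hgP
    obtain ⟨a, ha, hxa⟩ := C.pow_ne hgX (by
      intro h0
      rw [mul_inv_eq_one, mul_eq_left] at h0
      exact C.x_ne h0)
    obtain ⟨j, hj⟩ := C.pow_of_P hgP
    have h1 : (g * P * g⁻¹) * (g * X * g⁻¹) * (g * P * g⁻¹)⁻¹ = (g * X * g⁻¹) ^ 16 := by
      rw [conj_pow, ← C.yx]
      group
    have h2 := C.norm_P h1 hxa ha hj
    have h3 : g * P = P * g := by
      rw [mul_inv_eq_iff_eq_mul] at h2
      exact h2
    obtain ⟨k, hkK, n, hn⟩ := C.cent g h3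
    have hPn : P ^ n ∈ H := pow_mem hP n
    have hkN : k ∈ normalizer (H : Set G) := by
      have h4 : k = (P ^ n)⁻¹ * g := by rw [hn, inv_mul_cancel_left]
      rw [h4]
      exact mul_mem (inv_mem (le_normalizer hPn)) hg
    have hkX : k ∈ normalizer (zpowers X : Set G) := by
      have h4 : k = (P ^ n)⁻¹ * g := by rw [hn, inv_mul_cancel_left]
      rw [h4]
      refine mul_mem (inv_mem (pow_mem C.mem_norm_P n)) ?_
      rw [mem_normalizer_iff_map_conj_eq, MonoidHom.map_zpowers]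
      show zpowers (g * X * g⁻¹) = zpowers X
      apply Subgroup.eq_of_le_of_card_ge
      · rw [zpowers_le]; exact hgX
      · rw [Nat.card_zpowers, Nat.card_zpowers, C.ordX,
          show g * X * g⁻¹ = (MulAut.conj g) X from rfl, MulEquiv.orderOf_eq, C.ordX]
    have hs2 : s * s = 1 := by
      have h5 := h.t2
      have h6 : d * s * (d * s) = s * s := by
        calc d * s * (d * s) = d * (s * d) * s := by simp only [mul_assoc]
          _ = d * (d * s) * s := by rw [C.kd s hs]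
          _ = s * s := by rw [← mul_assoc, C.dd, one_mul]
      rw [h6] at h5
      exact h5
    have hks : k * s = s * k := by
      have h4 : k * (d * s) * k⁻¹ ∈ H := (mem_normalizer_iff.1 hkN _).1 ht
      have h5 : d * s * (k * (d * s) * k⁻¹) = s * (k * s * k⁻¹) := by
        calc d * s * (k * (d * s) * k⁻¹) = d * (s * (k * d)) * (s * k⁻¹) := by simp only [mul_assoc]
          _ = d * (s * d) * k * (s * k⁻¹) := by rw [C.kd k hkK]; simp only [mul_assoc]
          _ = (d * d) * s * k * (s * k⁻¹) := by rw [C.kd s hs]; simp only [mul_assoc]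
          _ = s * (k * s * k⁻¹) := by rw [C.dd, one_mul]; simp only [mul_assoc]
      have h6 : s * (k * s * k⁻¹) ∈ H := h5 ▸ mul_mem ht h4
      have h7 : s * (k * s * k⁻¹) ∈ K := mul_mem hs (mul_mem (mul_mem hkK hs) (inv_mem hkK))
      obtain ⟨m, hm⟩ := h.cent_y hc h6 (C.kP _ h7)
      have h8 : s * (k * s * k⁻¹) = 1 := by
        rw [← orderOf_eq_one_iff]
        apply Nat.eq_one_of_dvd_coprimes C.cop
        · rw [← Subgroup.orderOf_mk _ h7]
          exact orderOf_dvd_natCard _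
        · rw [hm]
          apply orderOf_dvd_of_pow_eq_one
          rw [← pow_mul, mul_comm, pow_mul, C.y11, one_pow]
      have h9 : k * s * k⁻¹ = s := by
        have h10 : k * s * k⁻¹ = s⁻¹ := eq_inv_of_mul_eq_one_right h8
        rw [h10]
        exact inv_eq_of_mul_eq_one_left hs2
      rwa [mul_inv_eq_iff_eq_mul] at h9
    have h1' := hk k hkK hks hkX
    rw [hn, h1', mul_one]
    exact hPn
  -- reduction to `⟨X⟩`
  have key2 : ∀ g ∈ normalizer (H : Set G), g * X * g⁻¹ ∈ zpowers X → g ∈ H := by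
    intro g hg hgX
    have hgN : g ∈ normalizer (zpowers X : Set G) := by
      rw [mem_normalizer_iff_map_conj_eq, MonoidHom.map_zpowers]
      show zpowers (g * X * g⁻¹) = zpowers X
      apply Subgroup.eq_of_le_of_card_ge
      · rw [zpowers_le]; exact hgX
      · rw [Nat.card_zpowers, Nat.card_zpowers, C.ordX,
          show g * X * g⁻¹ = (MulAut.conj g) X from rfl, MulEquiv.orderOf_eq, C.ordX]
    have h1 : g * P * g⁻¹ ∈ H ⊓ normalizer (zpowers X : Set G) :=
      mem_inf.2 ⟨(mem_normalizer_iff.1 hg _).1 hP, mul_mem (mul_mem hgN C.mem_norm_P) (inv_mem hgN)⟩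
    obtain ⟨c, hcc, hc2⟩ := conj_prime_in h11 (H ⊓ normalizer (zpowers X : Set G)) h1 (mem_inf.2 ⟨hP, C.mem_norm_P⟩)
      (by rw [show g * P * g⁻¹ = (MulAut.conj g) P from rfl, MulEquiv.orderOf_eq, C.ordP]) C.ordP
    obtain ⟨hcH, hcN⟩ := mem_inf.1 hcc
    have h2 : c * g ∈ H := by
      apply key
      · exact mul_mem (le_normalizer hcH) hg
      · have h3 := (mem_normalizer_iff.1 (mul_mem hcN hgN) X).1 (mem_zpowers X)
        exact h3
      · have h3 : c * g * P * (c * g)⁻¹ = c * (g * P * g⁻¹) * c⁻¹ := by group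
        rw [h3]
        exact hc2
    have h3 : g = c⁻¹ * (c * g) := by rw [inv_mul_cancel_left]
    rw [h3]
    exact mul_mem (inv_mem hcH) h2
  intro g hg
  have h1 : g * X * g⁻¹ ∈ H := (mem_normalizer_iff.1 hg _).1 hX
  obtain ⟨c, hcH, hc2⟩ := conj_prime_in h23 H h1 hX
    (by rw [show g * X * g⁻¹ = (MulAut.conj g) X from rfl, MulEquiv.orderOf_eq, C.ordX]) C.ordX
  have h2 : c * g ∈ H := by
    apply key2
    · exact mul_mem (le_normalizer hcH) hg
    · have h3 : c * g * X * (c * g)⁻¹ = c * (g * X * g⁻¹) * c⁻¹ := by group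
      rw [h3]
      exact hc2
  have h3 : g = c⁻¹ * (c * g) := by rw [inv_mul_cancel_left]
  rw [h3]
  exact mul_mem (inv_mem hcH) h2

end Conf

end Cfsg.Agent.H995.LB
end

-- part: H843/FiMax/Abs
section
prune_inst 0x102001006400020000000000000020202000010000000001d1000000000f10408000000042000810000800000000000000000000000000000000000000000000802a500002000104060009003003100000000000000000000000000000041004000000000
set_option linter.all false
open scoped Cfsg.Agent.FastGrp

/-!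
# `Fi23` with trivial centralizer is a maximal subgroup of `B`, abstractly (helper843)
-/

set_option autoImplicit false

namespace Cfsg.Agent.H843.FiMax

open Subgroup Cfsg Cfsg.Agent.OrdDiv Cfsg.Agent.H940.Eng Cfsg.Agent.H940.Eng.D
open scoped commutatorElement

/-! ### Numbers -/

/-- `|B| / |Fi23|` -/
def cc : ℕ := 1015970529280000

def l_cc : List (ℕ × ℕ) := [(2, 23), (5, 4), (7, 1), (19, 1), (31, 1), (47, 1)]

theorem v_cc : valid l_cc cc = true := by decide +kernel

theorem cc_mul : n_fi23 * cc = n_b := by decide +kernel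

theorem no_div : ∀ s ∈ o_b, ¬ s ∣ cc := by
  have h : (o_b.all fun s => cc % s != 0) = true := by decide +kernel
  rw [List.all_eq_true] at h
  intro s hs hd
  have h1 := h s hs
  rw [bne_iff_ne] at h1
  exact h1 (Nat.mod_eq_zero_of_dvd hd)

theorem big : ∀ s ∈ o_b, n_fi23 ∣ s → s = n_fi23 ∨ s = n_b := by
  have h : (o_b.all fun s => s % n_fi23 != 0 || s == n_fi23 || s == n_b) = true := by decide +kernel
  rw [List.all_eq_true] at h
  intro s hs hd
  have h1 := h s hs
  rw [Bool.or_eq_true, Bool.or_eq_true, bne_iff_ne, beq_iff_eq, beq_iff_eq] at h1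
  rcases h1 with (h1 | h1) | h1
  · exact absurd (Nat.mod_eq_zero_of_dvd hd) h1
  · exact Or.inl h1
  · exact Or.inr h1

/-- the order of `GL_k(q)` -/
def glp (q k : ℕ) : ℕ := ((List.range k).map fun i => q ^ k - q ^ i).prod

theorem glp_eq (q k : ℕ) : (∏ i : Fin k, (q ^ k - q ^ (i : ℕ))) = glp q k := by
  rw [glp, Fin.prod_univ_eq_prod_range (fun i => q ^ k - q ^ i) k, Finset.prod_eq_multiset_prod]
  rfl

theorem chk : (l_cc.all fun x => (List.range (x.2 + 1)).all fun k =>
    (x.1 == 2 && Nat.blt 14 k) || glp x.1 k % n_fi23 != 0) = true := by decide +kernel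

theorem gl_num {q k : ℕ} (hq : q.Prime) (hk : 1 ≤ k) (hd : q ^ k ∣ cc) (h2 : q = 2 → k ≤ 14) :
    ¬ n_fi23 ∣ ∏ i : Fin k, (q ^ k - q ^ (i : ℕ)) := by
  intro h
  obtain ⟨e, he, hke⟩ := exists_pair v_cc hq hk hd
  have h3 := List.all_eq_true.1 (List.all_eq_true.1 chk _ he) k (List.mem_range.2 (by show k < e + 1; omega))
  rw [Bool.or_eq_true, Bool.and_eq_true, beq_iff_eq, bne_iff_ne, Nat.blt_eq] at h3
  rcases h3 with h3 | h3
  · exact absurd (h2 h3.1) (not_le.2 h3.2)
  · rw [glp_eq] at h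
    exact h3 (Nat.mod_eq_zero_of_dvd h)

/-! ### Solvability -/

theorem solvable_of (ho : Ords.{0} n_b o_b) : ∀ (n : ℕ) (H : Type) [Group H] [Finite H], Nat.card H = n →
    Nat.card H ∣ cc → Group.IsSolvable H := by
  intro n
  induction n using Nat.strong_induction_on with
  | _ n ih =>
    intro H _ _ hn hd
    by_cases h1 : Nat.card H = 1
    · have : Subsingleton H := (Nat.card_eq_one_iff_unique.1 h1).1
      infer_instance
    have hnt : Nontrivial H := by
      rw [← Finite.one_lt_card_iff_nontrivial]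
      have : 0 < Nat.card H := Nat.card_pos
      omega
    by_cases hs : IsSimpleGroup H
    · by_contra hns
      have hna : ¬ ∀ a b : H, a * b = b * a := fun h => hns (Group.isSolvable_of_comm h)
      exact no_div _ (ho H hs hna (hd.trans (Dvd.intro_left _ cc_mul))) hd
    · obtain ⟨N, hN, hb, ht⟩ : ∃ N : Subgroup H, N.Normal ∧ N ≠ ⊥ ∧ N ≠ ⊤ := by
        by_contra hcon
        apply hs
        refine { eq_bot_or_eq_top_of_normal := fun N hN => ?_ }
        by_contra h
        push Not at h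
        exact hcon ⟨N, hN, h.1, h.2⟩
      have hmul := N.card_mul_index
      have hi : N.index ≠ 1 := fun h => ht (index_eq_one.1 h)
      have hc : Nat.card N ≠ 1 := fun h => hb (card_eq_one.1 h)
      have hpos : 0 < Nat.card N := Nat.card_pos
      have hpos2 : 0 < N.index := Nat.pos_of_ne_zero index_ne_zero_of_finite
      have s1 : Group.IsSolvable N := ih (Nat.card N) (by rw [← hn, ← hmul]; nlinarith [show 2 ≤ N.index by omega]) N rfl
        ((card_subgroup_dvd_card N).trans hd)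
      have s2 : Group.IsSolvable (H ⧸ N) := ih (Nat.card (H ⧸ N)) (by
        rw [← hn, ← hmul]; rw [← index_eq_card]; nlinarith [show 2 ≤ Nat.card N by omega]) (H ⧸ N) rfl
        ((card_quotient_dvd_card N).trans hd)
      exact Group.isSolvable_of_ker_le_range N.subtype (QuotientGroup.mk' N) (by
        rw [QuotientGroup.ker_mk', N.range_subtype])

variable {G : Type} [Group G] [Finite G] (hcard : Nat.card G = n_b) (ho : Ords.{0} n_b o_b) (hr : PRankLE 2 14 G)
  {K : Subgroup G} (hKs : IsSimpleGroup K) (hKc : Nat.card K = n_fi23)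
  (hC : centralizer (K : Set G) = ⊥)

/-- conjugation on an invariant subgroup -/
def cj (E : Subgroup G) (hE : ∀ k ∈ K, ∀ x ∈ E, k * x * k⁻¹ ∈ E) : ↥K →* MulAut ↥E where
  toFun k :=
    { toFun := fun x => ⟨k * x * (k : G)⁻¹, hE k k.2 x x.2⟩
      invFun := fun x => ⟨(k : G)⁻¹ * x * k, by
        have h := hE (k : G)⁻¹ (K.inv_mem k.2) x x.2
        rwa [inv_inv] at h⟩
      left_inv := fun x => Subtype.ext (by show (k : G)⁻¹ * (k * x * (k : G)⁻¹) * k = x; group)
      right_inv := fun x => Subtype.ext (by show (k : G) * ((k : G)⁻¹ * x * k) * (k : G)⁻¹ = x; group)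
      map_mul' := fun x y => Subtype.ext (by
        show (k : G) * (x * y) * (k : G)⁻¹ = k * x * (k : G)⁻¹ * (k * y * (k : G)⁻¹); group) }
  map_one' := by
    ext x
    show (1 : G) * x * (1 : G)⁻¹ = x
    group
  map_mul' k l := by
    ext x
    show ((k : G) * l) * x * ((k : G) * l)⁻¹ = k * (l * x * (l : G)⁻¹) * (k : G)⁻¹
    group

omit [Finite G] in
/-- the order of the product -/
theorem card_mul_dvd (E : Subgroup G) (hE : ∀ k ∈ K, ∀ x ∈ E, k * x * k⁻¹ ∈ E) (hd : K ⊓ E = ⊥) :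
    Nat.card K * Nat.card E ∣ Nat.card G := by
  let f : ↥E ⋊[cj E hE] ↥K →* G := SemidirectProduct.lift E.subtype K.subtype (fun k => by
    ext x
    rfl)
  have hf : Function.Injective f := by
    rw [injective_iff_map_eq_one]
    rintro ⟨e, k⟩ h
    have h1 : (e : G) * (k : G) = 1 := h
    have h2 : (k : G) ∈ K ⊓ E := ⟨k.2, by rw [eq_inv_of_mul_eq_one_right h1]; exact E.inv_mem e.2⟩
    rw [hd, mem_bot] at h2
    rw [h2, mul_one] at h1
    have h3 : e = 1 := Subtype.ext h1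
    have h4 : k = 1 := Subtype.ext h2
    rw [h3, h4]
    rfl
  have h := card_dvd_of_injective f hf
  rwa [SemidirectProduct.card, mul_comm] at h

include hcard ho hr hKs hKc hC

/-- **A nontrivial subgroup normalized by `K` contains `K`.** -/
theorem le_of_inv (M : Subgroup G) (hM : ∀ k ∈ K, ∀ x ∈ M, k * x * k⁻¹ ∈ M) (hb : M ≠ ⊥) : K ≤ M := by
  have hn : (M.subgroupOf K).Normal := ⟨fun x hx k => by
    rw [mem_subgroupOf] at hx ⊢
    exact hM k k.2 _ hx⟩
  rcases hKs.eq_bot_or_eq_top_of_normal _ hn with h1 | h1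
  swap
  · rwa [subgroupOf_eq_top] at h1
  exfalso
  -- a minimal invariant subgroup
  obtain ⟨E, ⟨hE1, hE2, hE3⟩, hmin⟩ : ∃ E : Subgroup G, (E ≤ M ∧ E ≠ ⊥ ∧ ∀ k ∈ K, ∀ x ∈ E, k * x * k⁻¹ ∈ E) ∧
      ∀ F : Subgroup G, (F ≤ M ∧ F ≠ ⊥ ∧ ∀ k ∈ K, ∀ x ∈ F, k * x * k⁻¹ ∈ F) → Nat.card E ≤ Nat.card F := by
    obtain ⟨E, hE, hmin⟩ := Set.exists_min_image {E : Subgroup G | E ≤ M ∧ E ≠ ⊥ ∧ ∀ k ∈ K, ∀ x ∈ E, k * x * k⁻¹ ∈ E}
      (fun E => Nat.card E) (Set.toFinite _) ⟨M, le_rfl, hb, hM⟩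
    exact ⟨E, hE, fun F hF => hmin F hF⟩
  have hEeq : ∀ F : Subgroup G, F ≤ E → F ≠ ⊥ → (∀ k ∈ K, ∀ x ∈ F, k * x * k⁻¹ ∈ F) → F = E := fun F h2 h3 h4 =>
    eq_of_le_of_card_ge h2 (hmin F ⟨h2.trans hE1, h3, h4⟩)
  -- the order of `E`
  have hdisj : K ⊓ E = ⊥ := by
    rw [eq_bot_iff]
    intro x hx
    have h2 : (⟨x, hx.1⟩ : K) ∈ M.subgroupOf K := mem_subgroupOf.2 (hE1 hx.2)
    rw [h1, mem_bot] at h2
    exact mem_bot.2 (congrArg Subtype.val h2)
  have hnorm : K ≤ normalizer (E : Set G) := by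
    intro k hk
    rw [mem_normalizer_iff]
    intro x
    refine ⟨hE3 k hk x, fun hx => ?_⟩
    have h2 := hE3 k⁻¹ (K.inv_mem hk) _ hx
    have h3 : k⁻¹ * (k * x * k⁻¹) * k⁻¹⁻¹ = x := by group
    rwa [h3] at h2
  have hEc : Nat.card E ∣ cc := by
    have h3 : Nat.card K * Nat.card E ∣ n_b := by
      rw [← hcard]
      exact card_mul_dvd E hE3 hdisj
    rw [hKc, ← cc_mul] at h3
    exact Nat.dvd_of_mul_dvd_mul_left (by decide +kernel) h3
  have hsolv := solvable_of ho _ E rfl hEc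
  have hcj : ∀ (k : ↥K) (x : ↥E), ((cj E hE3 k x : ↥E) : G) = k * x * (k : G)⁻¹ := fun _ _ => rfl
  -- `E` is abelian
  have hab : ∀ a ∈ E, ∀ b ∈ E, a * b = b * a := by
    have hnt : Nontrivial ↥E := (nontrivial_iff_ne_bot E).2 hE2
    have hC1 : (commutator ↥E).map E.subtype = ⊥ := by
      by_contra hne
      have h2 := hEeq ((commutator ↥E).map E.subtype) (map_subtype_le _) hne (by
        rintro k hk _ ⟨y, hy, rfl⟩
        refine ⟨cj E hE3 ⟨k, hk⟩ y, ?_, rfl⟩
        have h3 := characteristic_iff_map_eq.1 (inferInstance : (commutator ↥E).Characteristic) (cj E hE3 ⟨k, hk⟩)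
        have h4 : cj E hE3 ⟨k, hk⟩ y ∈ (commutator ↥E).map (cj E hE3 ⟨k, hk⟩).toMonoidHom := ⟨y, hy, rfl⟩
        rw [h3] at h4
        exact h4)
      have h3 : commutator ↥E = ⊤ := by
        rw [eq_top_iff]
        rintro x -
        have h4 : (x : G) ∈ (commutator ↥E).map E.subtype := by rw [h2]; exact x.2
        obtain ⟨y, hy, hyx⟩ := h4
        have h5 : y = x := Subtype.ext hyx
        rw [← h5]
        exact hy
      exact (Group.IsSolvable.commutator_lt_top_of_nontrivial ↥E).ne h3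
    rw [map_eq_bot_iff_of_injective _ E.subtype_injective] at hC1
    intro a ha b hb
    have h2 : ⁅(⟨a, ha⟩ : ↥E), (⟨b, hb⟩ : ↥E)⁆ ∈ commutator ↥E := commutator_mem_commutator (mem_top _) (mem_top _)
    rw [hC1, mem_bot, commutatorElement_eq_one_iff_mul_comm] at h2
    exact congrArg Subtype.val h2
  -- `E` is elementary abelian
  have hE1' : Nat.card E ≠ 1 := fun h => hE2 (card_eq_one.1 h)
  obtain ⟨r, hrp, hrd⟩ := Nat.exists_prime_and_dvd hE1'
  have hfr : Fact r.Prime := ⟨hrp⟩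
  have hpow : ∀ x ∈ E, x ^ r = 1 := by
    let F : Subgroup G :=
      { carrier := {x | x ∈ E ∧ x ^ r = 1}
        one_mem' := ⟨E.one_mem, one_pow _⟩
        mul_mem' := by
          rintro a b ⟨ha, ha1⟩ ⟨hb, hb1⟩
          refine ⟨E.mul_mem ha hb, ?_⟩
          rw [(show Commute a b from hab a ha b hb).mul_pow, ha1, hb1, one_mul]
        inv_mem' := by
          rintro a ⟨ha, ha1⟩
          exact ⟨E.inv_mem ha, by rw [inv_pow, ha1, inv_one]⟩ }
    have hF : F = E := by
      apply hEeq F (fun x hx => hx.1)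
      · obtain ⟨y, hy⟩ := exists_prime_orderOf_dvd_card' r hrd
        intro hb
        have h2 : (y : G) ∈ F := ⟨y.2, by
          have h3 : y ^ r = 1 := by rw [← hy, pow_orderOf_eq_one]
          exact congrArg Subtype.val h3⟩
        rw [hb, mem_bot] at h2
        have h3 : y = 1 := Subtype.ext h2
        rw [h3, orderOf_one] at hy
        exact hrp.one_lt.ne hy
      · rintro k hk x ⟨hx, hx1⟩
        refine ⟨hE3 k hk x hx, ?_⟩
        rw [conj_pow, hx1, mul_one, mul_inv_cancel]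
    intro x hx
    rw [← hF] at hx
    exact hx.2
  have hpg : IsPGroup r ↥E := fun x => ⟨1, by
    rw [pow_one]
    exact Subtype.ext (hpow x x.2)⟩
  obtain ⟨k, hk⟩ := IsPGroup.iff_card.1 hpg
  have hk1 : 1 ≤ k := by
    by_contra hk0
    have h2 : k = 0 := by omega
    rw [h2, pow_zero] at hk
    exact hE1' hk
  have hcomm : IsMulCommutative ↥E := ⟨⟨fun a b => Subtype.ext (hab a a.2 b b.2)⟩⟩
  have h14 : r = 2 → k ≤ 14 := by
    rintro rfl
    have h2 := hr E hcomm hpow
    rw [hk] at h2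
    exact (Nat.pow_le_pow_iff_right (by norm_num)).1 h2
  -- the action of `K` on `E`
  rcases hKs.eq_bot_or_eq_top_of_normal (cj E hE3).ker inferInstance with h2 | h2
  · have hinj : Function.Injective (cj E hE3) := (MonoidHom.ker_eq_bot_iff _).1 h2
    let _ : CommGroup ↥E := { (inferInstance : Group ↥E) with
      mul_comm := fun a b => Subtype.ext (hab a a.2 b b.2) }
    obtain ⟨f⟩ := Cfsg.Agent.Lib.ElemAbGL.mulAut_equiv_GL (V := ↥E) r k (fun x => Subtype.ext (hpow x x.2)) hk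
    have hfin : Finite (MulAut ↥E) := Finite.of_injective (fun φ : MulAut ↥E => (φ : ↥E → ↥E)) DFunLike.coe_injective
    have h3 := card_dvd_of_injective (cj E hE3) hinj
    rw [Nat.card_congr f.toEquiv, Matrix.card_GL_field, ZMod.card, hKc] at h3
    exact gl_num hrp hk1 (by rw [← hk]; exact hEc) h14 h3
  · apply hE2
    rw [eq_bot_iff, ← hC]
    intro x hx
    rw [mem_centralizer_iff]
    intro y hy
    have h3 : (⟨y, hy⟩ : ↥K) ∈ (cj E hE3).ker := by rw [h2]; exact mem_top _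
    rw [MonoidHom.mem_ker] at h3
    have h4 : y * x * y⁻¹ = x := by
      have h5 := congrArg (fun φ : MulAut ↥E => ((φ ⟨x, hx⟩ : ↥E) : G)) h3
      exact h5
    calc y * x = y * x * y⁻¹ * y := by group
      _ = x * y := by rw [h4]

/-- **`K` is maximal.** -/
theorem coatom_abs (hinn : ∀ φ : MulAut ↥K, ∃ k : ↥K, φ = MulAut.conj k) : IsCoatom K := by
  have hna : ∃ a ∈ K, ∃ b ∈ K, a * b ≠ b * a := by
    by_contra hcon
    push Not at hcon
    have h1 : K ≤ centralizer (K : Set G) := fun a ha => mem_centralizer_iff.2 fun b hb => hcon b hb a ha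
    rw [hC, le_bot_iff] at h1
    rw [h1, card_bot] at hKc
    exact absurd hKc (by decide +kernel)
  refine ⟨?_, fun L hL => ?_⟩
  · intro h
    rw [h, card_top, hcard] at hKc
    exact absurd hKc (by decide +kernel)
  have hKL := hL.le
  -- the normal closure
  obtain ⟨N, hNd⟩ : ∃ N : Subgroup G, N = closure {x | ∃ l ∈ L, ∃ k ∈ K, x = l * k * l⁻¹} := ⟨_, rfl⟩
  have hgen : ∀ l ∈ L, ∀ k ∈ K, l * k * l⁻¹ ∈ N := fun l hl k hk => by
    rw [hNd]
    exact subset_closure ⟨l, hl, k, hk, rfl⟩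
  have hKN : K ≤ N := fun k hk => by
    have h := hgen 1 L.one_mem k hk
    rwa [one_mul, inv_one, mul_one] at h
  have hNL : N ≤ L := by
    rw [hNd, closure_le]
    rintro _ ⟨l, hl, k, hk, rfl⟩
    exact L.mul_mem (L.mul_mem hl (hKL hk)) (L.inv_mem hl)
  have hLN : ∀ l ∈ L, ∀ x ∈ N, l * x * l⁻¹ ∈ N := by
    intro l hl x hx
    rw [hNd] at hx
    induction hx using closure_induction with
    | mem x h =>
      obtain ⟨m, hm, k, hk, rfl⟩ := h
      have h2 := hgen (l * m) (L.mul_mem hl hm) k hk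
      have h3 : l * m * k * (l * m)⁻¹ = l * (m * k * m⁻¹) * l⁻¹ := by group
      rwa [h3] at h2
    | one => rw [mul_one, mul_inv_cancel]; exact N.one_mem
    | mul x y _ _ h1 h2 =>
      have h3 : l * (x * y) * l⁻¹ = (l * x * l⁻¹) * (l * y * l⁻¹) := by group
      rw [h3]
      exact N.mul_mem h1 h2
    | inv x _ h1 =>
      have h3 : l * x⁻¹ * l⁻¹ = (l * x * l⁻¹)⁻¹ := by group
      rw [h3]
      exact N.inv_mem h1
  -- `N` is simple
  have hsimple : IsSimpleGroup ↥N := by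
    obtain ⟨a, ha, b, hb, hab⟩ := hna
    have hnt : Nontrivial ↥N := ⟨⟨a, hKN ha⟩, 1, fun h => hab (by
      have h1 : a = 1 := congrArg Subtype.val h
      rw [h1, one_mul, mul_one])⟩
    refine { eq_bot_or_eq_top_of_normal := fun M hM => ?_ }
    by_cases hb : M = ⊥
    · exact Or.inl hb
    right
    have hM' : ∀ n ∈ N, ∀ x ∈ M.map N.subtype, n * x * n⁻¹ ∈ M.map N.subtype := by
      rintro n hn _ ⟨y, hy, rfl⟩
      exact ⟨⟨n, hn⟩ * y * ⟨n, hn⟩⁻¹, hM.conj_mem y hy ⟨n, hn⟩, rfl⟩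
    have hMb : M.map N.subtype ≠ ⊥ := fun h => hb ((map_eq_bot_iff_of_injective _ N.subtype_injective).1 h)
    have key : ∀ l ∈ L, ∀ k ∈ K, l * k * l⁻¹ ∈ M.map N.subtype := by
      intro l hl k hk
      have h1 := le_of_inv hcard ho hr hKs hKc hC ((M.map N.subtype).comap (MulAut.conj l).toMonoidHom) (by
        intro k hk x hx
        rw [mem_comap] at hx ⊢
        have h2 := hM' (l * k * l⁻¹) (hgen l hl k hk) _ hx
        have h3 : l * k * l⁻¹ * ((MulAut.conj l).toMonoidHom x) * (l * k * l⁻¹)⁻¹ =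
            (MulAut.conj l).toMonoidHom (k * x * k⁻¹) := by
          show l * k * l⁻¹ * (l * x * l⁻¹) * (l * k * l⁻¹)⁻¹ = l * (k * x * k⁻¹) * l⁻¹
          group
        rwa [h3] at h2) (by
        intro h
        apply hMb
        rw [eq_bot_iff]
        intro x hx
        have h2 : l⁻¹ * x * l ∈ (M.map N.subtype).comap (MulAut.conj l).toMonoidHom := by
          rw [mem_comap]
          show l * (l⁻¹ * x * l) * l⁻¹ ∈ _
          have h3 : l * (l⁻¹ * x * l) * l⁻¹ = x := by group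
          rwa [h3]
        rw [h, mem_bot] at h2
        have h3 : x = l * (l⁻¹ * x * l) * l⁻¹ := by group
        rw [mem_bot, h3, h2, mul_one, mul_inv_cancel])
      exact h1 hk
    have h2 : N ≤ M.map N.subtype := by
      conv_lhs => rw [hNd]
      rw [closure_le]
      rintro _ ⟨l, hl, k, hk, rfl⟩
      exact key l hl k hk
    rw [eq_top_iff]
    rintro x -
    obtain ⟨y, hy, hyx⟩ := h2 x.2
    have h3 : y = x := Subtype.ext hyx
    rw [← h3]
    exact hy
  have hmem : Nat.card ↥N ∈ o_b := by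
    obtain ⟨a, ha, b, hb, hab⟩ := hna
    refine ho ↥N hsimple (fun h => hab ?_) (by rw [← hcard]; exact card_subgroup_dvd_card N)
    exact congrArg Subtype.val (h ⟨a, hKN ha⟩ ⟨b, hKN hb⟩)
  rcases big _ hmem (by rw [← hKc]; exact card_dvd_of_le hKN) with h1 | h1
  · -- `N = K`
    exfalso
    have h2 : K = N := eq_of_le_of_card_ge hKN (by rw [h1, hKc])
    apply hL.not_ge
    intro l hl
    have hlK : ∀ k ∈ K, l * k * l⁻¹ ∈ K := fun k hk => by
      have h3 := hLN l hl k (hKN hk)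
      rwa [← h2] at h3
    have hlK' : ∀ k ∈ K, l⁻¹ * k * l ∈ K := fun k hk => by
      have h3 := hLN l⁻¹ (L.inv_mem hl) k (hKN hk)
      rwa [← h2, inv_inv] at h3
    obtain ⟨c, hc⟩ := hinn
      { toFun := fun x => ⟨l * x * l⁻¹, hlK x x.2⟩
        invFun := fun x => ⟨l⁻¹ * x * l, hlK' x x.2⟩
        left_inv := fun x => Subtype.ext (by show l⁻¹ * (l * x * l⁻¹) * l = x; group)
        right_inv := fun x => Subtype.ext (by show l * (l⁻¹ * x * l) * l⁻¹ = x; group)
        map_mul' := fun x y => Subtype.ext (by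
          show l * (x * y) * l⁻¹ = l * x * l⁻¹ * (l * y * l⁻¹); group) }
    have h3 : (c : G)⁻¹ * l ∈ centralizer (K : Set G) := by
      rw [mem_centralizer_iff]
      intro k hk
      have h4 := congrArg (fun φ : MulAut ↥K => ((φ ⟨k, hk⟩ : ↥K) : G)) hc
      have h5 : l * k * l⁻¹ = c * k * (c : G)⁻¹ := h4
      calc k * ((c : G)⁻¹ * l) = (c : G)⁻¹ * (c * k * (c : G)⁻¹) * l := by group
        _ = (c : G)⁻¹ * (l * k * l⁻¹) * l := by rw [h5]
        _ = (c : G)⁻¹ * l * k := by group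
    rw [hC, mem_bot] at h3
    have h4 : l = c := by
      calc l = (c : G) * ((c : G)⁻¹ * l) := by group
        _ = c := by rw [h3, mul_one]
    rw [h4]
    exact c.2
  · have h2 : N = ⊤ := eq_top_of_card_eq _ (by rw [h1, hcard])
    rw [h2, top_le_iff] at hNL
    exact hNL

end Cfsg.Agent.H843.FiMax

private theorem dce_659ce163efa4 : _root_.True := by
  try have : _root_.True := by simp only [_root_.Cfsg.Agent.H843.FiMax.glp.eq_1]
  exact _root_.True.intro
end
end
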