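import Cfsg.Agent.H995.LB.ChkF
import Cfsg.Agent.H995.LB.ChkG
import Cfsg.Agent.H995.LB.ChkH
import Cfsg.Agent.BabyM.Fi23B
import Cfsg.Agent.S1697
import Cfsg.Agent.Prune
set_option linter.all false
prune_inst 0x7f00000000000000000000000000000000000000000000000000000000000000000000000000000000000000000000000000000000000000000000000000000000000000000000000000000000000000003fffffffffffffffffffffffffffbeffbdffffffff
open scoped Cfsg.Agent.FastGrp

/-!
# `PSL(2, 23)` in the Baby Monster: the overgroup `Fi23` (helper995, for S5524)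
-/

set_option autoImplicit false
set_option linter.constructorNameAsVariable false

namespace Cfsg.Agent.H995.LB

open Subgroup
open Cfsg.Agent.Monster.VecEngine Cfsg.Agent.Monster.VecSpace
open Cfsg.Agent.BabyM.Conc Cfsg.Agent.BabyM.Inst Cfsg.Agent.BabyM.WordsInst
  Cfsg.Agent.BM.StageW Cfsg.Agent.BabyM.TransCover Cfsg.Spor Cfsg.Agent.MonsterX.WordSub
  Cfsg.Agent.MonsterX.WordRels Cfsg.Agent.BabyM.Fi23B

/-- The standard `Fi23`. -/
noncomputable def KF : Subgroup M.G := closure (Set.range fun s : Fi23.Gen => BM.StageW.x (m s))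

theorem iso_KF : Nonempty (Cfsg.Spor.Fi23 ≃* KF) := by
  have A := Cfsg.Agent.BabyM.Instance.all
  have O := Cfsg.Agent.BabyM.Instance.ok
  obtain ⟨K, e, hK⟩ := exists_subgroup Cfsg.Spor.Fi23.edges Cfsg.Spor.Fi23.extra S1697.result.1
    (fun t => BM.StageW.x (Cfsg.Agent.BabyM.Fi23B.m t)) (by
      rintro r (hr | hr)
      · exact cox_lift _ _ (fun s _ t _ => by rw [label]; exact cox A O _ _) r hr
      · exact lift_extra fi23_extra _ (rels A O) r hr) ⟨.g, t2_ne⟩
  rw [hK] at e
  exact e

theorem fw_mem (i : Fi23.Gen) : Wg (fw i) ∈ KF := by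
  have h : Wg (fw i) = BM.StageW.x (m i) := by cases i <;> rfl
  rw [h]
  exact subset_closure ⟨i, rfl⟩

theorem kw_mem (l : List Fi23.Gen) : Wg (kw l) ∈ KF := by
  induction l with
  | nil => exact (Wg_nil ▸ KF.one_mem : Wg [] ∈ KF)
  | cons i l ih =>
    rw [show kw (i :: l) = fw i ++ kw l from rfl, Wg_append]
    exact KF.mul_mem ih (fw_mem i)

/-- The conjugating element. -/
noncomputable def γ : M.G := Wg wg

theorem conj_mem {u : List Ltr} {l : List Fi23.Gen} (h : eqc (u ++ wg) (wg ++ kw l) = true) :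
    γ * Wg u * γ⁻¹ ∈ KF := by
  have h1 := eq_of_eqc h
  rw [Wg_append, Wg_append] at h1
  have h2 : γ * Wg u = Wg (kw l) * γ := h1
  rw [h2, mul_inv_cancel_right]
  exact kw_mem l

theorem t_eq : Wg (sw (Sw 25) ++ wd) = D * s 25 := Wg_append _ _

theorem xF_in : γ * X * γ⁻¹ ∈ KF := conj_mem fX_in

theorem pF_in : γ * P * γ⁻¹ ∈ KF := conj_mem fP_in

theorem tF_in : γ * (D * s 25) * γ⁻¹ ∈ KF := by
  rw [← t_eq]
  exact conj_mem fT_in

/-- the conjugate of `PSL(2, 23)` normalising `KF` -/
noncomputable def HF : Subgroup M.G := closure {γ * X * γ⁻¹, γ * P * γ⁻¹, γ * (D * s 25) * γ⁻¹}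

theorem HF_eq : HF = (closure {X, P, D * s 25}).map (MulAut.conj γ).toMonoidHom := (map_conj_closure _ _ _ _).symm

theorem relF : Rel (γ * X * γ⁻¹) (γ * P * γ⁻¹) (γ * (D * s 25) * γ⁻¹) := rel25.map (MulAut.conj γ).toMonoidHom

theorem xF_ne : γ * X * γ⁻¹ ≠ 1 := by
  intro h
  rw [mul_inv_eq_one, mul_eq_left] at h
  exact X_ne h

theorem simple_H : IsSimpleGroup (closure {X, P, D * s 25}) := by
  have hF : Fintype.card (ZMod 23) = 23 := ZMod.card 23
  have : Fact (Nat.Prime 23) := ⟨by norm_num⟩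
  obtain ⟨e⟩ := iso hF rel25 X_ne
  have := simple_psl hF
  exact e.isSimpleGroup

theorem simple_HF : IsSimpleGroup HF := by
  have := simple_H
  rw [HF_eq]
  exact ((closure {X, P, D * s 25}).equivMapOfInjective _ (MulAut.conj γ).injective).symm.isSimpleGroup

theorem HF_le (hcard : Nat.card M.G = 4154781481226426191177580544000000) [Finite M.G] : HF ≤ KF := by
  rw [HF, closure_le]
  rintro _ (rfl | rfl | rfl)
  · exact xF_in
  · exact pF_in
  · exact tF_in

/-- **The centralizer of `KF` is trivial.** -/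
theorem cent_KF (hcard : Nat.card M.G = 4154781481226426191177580544000000) [Finite M.G]
    (hnorm : normalizer (closure {X, P, D * s 25} : Set M.G) = closure {X, P, D * s 25}) :
    centralizer (KF : Set M.G) = ⊥ := by
  have hle := HF_le hcard
  have hnF : normalizer (HF : Set M.G) = HF := by
    rw [HF_eq]
    conv_rhs => rw [← hnorm]
    exact (Subgroup.map_equiv_normalizer_eq (closure {X, P, D * s 25}) (MulAut.conj γ)).symm
  rw [eq_bot_iff]
  intro c hc
  have h1 : c ∈ normalizer (HF : Set M.G) :=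
    centralizer_le_normalizer (HF : Set M.G) (centralizer_le (fun _ hx => hle hx) hc)
  rw [hnF] at h1
  -- `c` is central in `HF`
  have h2 : (⟨c, h1⟩ : HF) ∈ Subgroup.center HF := by
    rw [Subgroup.mem_center_iff]
    intro g
    exact Subtype.ext (mem_centralizer_iff.1 hc g.1 (hle g.2))
  have := simple_HF
  rcases (inferInstance : (Subgroup.center HF).Normal).eq_bot_or_eq_top with h | h
  · rw [h, mem_bot] at h2
    exact mem_bot.2 (congrArg Subtype.val h2)
  · exfalso
    -- then `HF` is commutative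
    have h3 : (⟨γ * P * γ⁻¹, subset_closure (by simp)⟩ : HF) ∈ Subgroup.center HF := by rw [h]; trivial
    have h4 := congrArg Subtype.val (Subgroup.mem_center_iff.1 h3 ⟨γ * X * γ⁻¹, subset_closure (by simp)⟩)
    have h5 : (γ * X * γ⁻¹) * (γ * P * γ⁻¹) = (γ * P * γ⁻¹) * (γ * X * γ⁻¹) := h4
    have h6 := relF.yx
    rw [← h5, mul_inv_cancel_right] at h6
    have h7 : (γ * X * γ⁻¹) ^ 15 = 1 := by
      have h8 : (γ * X * γ⁻¹) ^ 15 * (γ * X * γ⁻¹) = γ * X * γ⁻¹ := by rw [← pow_succ]; exact h6.symm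
      exact mul_eq_right.1 h8
    have h9 : orderOf (γ * X * γ⁻¹) = 23 := by
      have : Fact (Nat.Prime 23) := ⟨by norm_num⟩
      exact orderOf_eq_prime relF.x23 xF_ne
    have h10 := orderOf_dvd_of_pow_eq_one h7
    rw [h9] at h10
    exact absurd h10 (by norm_num)

end Cfsg.Agent.H995.LB

private theorem dce_83bf9ff8d8fd : _root_.True := by
  try have : _root_.True := by simp only [_root_.Cfsg.Agent.H995.LB.HF.eq_1]
  try have : _root_.True := by simp only [_root_.Cfsg.Agent.H995.LB.KF.eq_1]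
  exact _root_.True.intro
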