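import Cfsg.Agent.H995.LB.FiK
import Cfsg.Agent.H816.CPFin
import Cfsg.Agent.BM.KHAll
import Cfsg.Agent.Prune
set_option linter.all false
prune_inst 0x7f00000000000000000000000000000000000000000000000000000000000000000000000000000000000000000000000000000000000000000000000000000000000000000000000000000000000000003fffffffffffffffffffffffffffbeffbdffffffff
open scoped Cfsg.Agent.FastGrp

/-!
# `PSL(2, 23)` in the Baby Monster (helper995, for S5524)
-/

set_option autoImplicit false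

namespace Cfsg.Agent.H995.LB

open Subgroup
open Cfsg.Agent.BabyM.Inst Cfsg.Agent.BM.StageW

theorem card_MG : Nat.card M.G = 4154781481226426191177580544000000 := by
  rw [← Nat.card_congr BM.KHAll.iso.toEquiv]
  exact BM.KHAll.card_B

theorem h11 : ¬ 11 ^ 2 ∣ Nat.card M.G := by
  rw [card_MG]; norm_num

theorem h23 : ¬ 23 ^ 2 ∣ Nat.card M.G := by
  rw [card_MG]; norm_num

theorem finMG : Finite M.G := Nat.finite_of_card_ne_zero (by rw [card_MG]; norm_num)

/-- `PSL(2, 23)` in the model. -/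
noncomputable def H0 : Subgroup M.G := closure {X, P, D * s 25}

theorem conj0 {x y t : M.G} (h : Rel x y t) (hx : x ≠ 1) :
    ∃ g : M.G, (closure {x, y, t}).map (MulAut.conj g).toMonoidHom = H0 := by
  obtain ⟨K, ⟨e⟩, hK, hc⟩ := H816.CPFin.cent_p
  exact conj_H e hK hc h11 h23 finMG h hx

theorem norm0 : normalizer (H0 : Set M.G) = H0 := by
  obtain ⟨K, ⟨e⟩, hK, hc⟩ := H816.CPFin.cent_p
  exact norm_H e hK hc h11 h23 finMG

theorem centKF : centralizer (KF : Set M.G) = ⊥ := by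
  have := finMG
  exact cent_KF card_MG norm0

theorem HF_le_KF : HF ≤ KF := by
  have := finMG
  exact HF_le card_MG

/-! ### In the presented group -/

open Cfsg.Spor

/-- `PSL(2, 23)` -/
noncomputable def HB : Subgroup BabyMonster := H0.map BM.KHAll.iso.symm.toMonoidHom

/-- `Fi23` -/
noncomputable def KB : Subgroup BabyMonster := KF.map BM.KHAll.iso.symm.toMonoidHom

theorem iso_KB : Cfsg.Spor.IsoFi23 KB := by
  obtain ⟨e⟩ := iso_KF
  exact ⟨(e.trans (KF.equivMapOfInjective _ BM.KHAll.iso.symm.injective)).symm⟩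

theorem cent_KB : centralizer (KB : Set BabyMonster) = ⊥ := by
  rw [eq_bot_iff]
  intro c hc
  have h1 : BM.KHAll.iso c ∈ centralizer (KF : Set M.G) := by
    rw [mem_centralizer_iff]
    intro k hk
    have h2 := mem_centralizer_iff.1 hc (BM.KHAll.iso.symm k) ⟨k, hk, rfl⟩
    have h3 := congrArg BM.KHAll.iso h2
    rw [map_mul, map_mul, MulEquiv.apply_symm_apply] at h3
    exact h3
  rw [centKF, mem_bot] at h1
  exact mem_bot.2 (by rwa [MulEquiv.map_eq_one_iff] at h1)

theorem norm_HB : normalizer (HB : Set BabyMonster) = HB := by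
  rw [HB]
  conv_rhs => rw [← norm0]
  exact (Subgroup.map_equiv_normalizer_eq H0 BM.KHAll.iso.symm).symm

section

variable {F : Type*} [Field F] [Fintype F] (hF : Fintype.card F = 23)

include hF

theorem iso_HB : Nonempty (HB ≃* Matrix.ProjectiveSpecialLinearGroup (Fin 2) F) := by
  obtain ⟨e⟩ := iso hF rel25 X_ne
  exact ⟨(H0.equivMapOfInjective _ BM.KHAll.iso.symm.injective).symm.trans e⟩

/-- a subgroup isomorphic to `PSL(2, 23)` is generated by a triple satisfying the relations -/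
theorem exists_triple {G : Type*} [Group G] {H : Subgroup G}
    (e : H ≃* Matrix.ProjectiveSpecialLinearGroup (Fin 2) F) :
    ∃ x y t : G, Rel x y t ∧ x ≠ 1 ∧ closure {x, y, t} = H := by
  obtain ⟨x, y, t, hr, hc, hx⟩ := exists_rel hF
  refine ⟨(e.symm x : H), (e.symm y : H), (e.symm t : H), hr.map (H.subtype.comp e.symm.toMonoidHom), ?_, ?_⟩
  · intro h
    have h1 : e.symm x = 1 := Subtype.ext h
    exact hx (by rwa [MulEquiv.map_eq_one_iff] at h1)
  · have h1 := map_closure3 (H.subtype.comp e.symm.toMonoidHom) x y t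
    rw [hc] at h1
    rw [show (closure {((e.symm x : H) : G), ((e.symm y : H) : G), ((e.symm t : H) : G)} : Subgroup G) =
      closure {(H.subtype.comp e.symm.toMonoidHom) x, (H.subtype.comp e.symm.toMonoidHom) y,
        (H.subtype.comp e.symm.toMonoidHom) t} from rfl, ← h1, ← MonoidHom.range_eq_map]
    ext g
    constructor
    · rintro ⟨a, rfl⟩
      exact (e.symm a).2
    · intro hg
      exact ⟨e ⟨g, hg⟩, by simp⟩

/-- **every subgroup isomorphic to `PSL(2, 23)` is conjugate to `HB`** -/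
theorem conj_HB {H : Subgroup BabyMonster} (e : H ≃* Matrix.ProjectiveSpecialLinearGroup (Fin 2) F) :
    ∃ g : BabyMonster, H.map (MulAut.conj g).toMonoidHom = HB := by
  obtain ⟨x, y, t, hr, hx, hc⟩ := exists_triple hF e
  obtain ⟨g, hg⟩ := conj0 (hr.map BM.KHAll.iso.toMonoidHom) (fun h => hx (by
    have h1 : BM.KHAll.iso x = 1 := h
    rwa [MulEquiv.map_eq_one_iff] at h1))
  refine ⟨BM.KHAll.iso.symm g, ?_⟩
  rw [HB, ← hg, ← map_closure3, hc, Subgroup.map_map, Subgroup.map_map]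
  congr 1
  refine MonoidHom.ext fun a => ?_
  show BM.KHAll.iso.symm g * a * (BM.KHAll.iso.symm g)⁻¹ =
    BM.KHAll.iso.symm (g * BM.KHAll.iso a * g⁻¹)
  rw [map_mul, map_mul, map_inv, MulEquiv.symm_apply_apply]

end

theorem map_conj_inv {G : Type*} [Group G] (g : G) (S : Subgroup G) :
    (S.map (MulAut.conj g).toMonoidHom).map (MulAut.conj g⁻¹).toMonoidHom = S := by
  rw [← map_conj_mul, inv_mul_cancel, map_one]
  exact Subgroup.map_id S

/-- `HB` is in a conjugate of `KB` -/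
theorem HB_le : ∃ g : BabyMonster, HB ≤ KB.map (MulAut.conj g).toMonoidHom := by
  refine ⟨(BM.KHAll.iso.symm γ)⁻¹, ?_⟩
  have h1 : HB.map (MulAut.conj (BM.KHAll.iso.symm γ)).toMonoidHom = HF.map BM.KHAll.iso.symm.toMonoidHom := by
    rw [HB, HF_eq, Subgroup.map_map, Subgroup.map_map]
    show _ = H0.map _
    congr 1
    refine MonoidHom.ext fun a => ?_
    show BM.KHAll.iso.symm γ * BM.KHAll.iso.symm a * (BM.KHAll.iso.symm γ)⁻¹ = BM.KHAll.iso.symm (γ * a * γ⁻¹)
    rw [map_mul, map_mul, map_inv]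
  have h2 : HB.map (MulAut.conj (BM.KHAll.iso.symm γ)).toMonoidHom ≤ KB := by
    rw [h1]
    exact Subgroup.map_mono HF_le_KF
  have h3 := Subgroup.map_mono (f := (MulAut.conj (BM.KHAll.iso.symm γ)⁻¹).toMonoidHom) h2
  rwa [map_conj_inv] at h3

theorem isCoatom_map {G : Type*} [Group G] {S : Subgroup G} (h : IsCoatom S) (g : G) :
    IsCoatom (S.map (MulAut.conj g).toMonoidHom) := by
  have h1 : S.map (MulAut.conj g).toMonoidHom = (MulEquiv.mapSubgroup (MulAut.conj g)) S := rfl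
  rw [h1, OrderIso.isCoatom_iff]
  exact h

/-- **S5524** given the maximality of `Fi23`. -/
theorem main_of (hco : ∀ K : Subgroup BabyMonster, IsoFi23 K → centralizer (K : Set BabyMonster) = ⊥ → IsCoatom K)
    {F : Type*} [Field F] [Fintype F] (hF : Fintype.card F = 23) :
    (∃ H : Subgroup Cfsg.Spor.BabyMonster, Nonempty (↥H ≃* Matrix.ProjectiveSpecialLinearGroup (Fin 2) F)) ∧
    (∀ H₁ H₂ : Subgroup Cfsg.Spor.BabyMonster, Nonempty (↥H₁ ≃* Matrix.ProjectiveSpecialLinearGroup (Fin 2) F) →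
      Nonempty (↥H₂ ≃* Matrix.ProjectiveSpecialLinearGroup (Fin 2) F) → ∃ g : Cfsg.Spor.BabyMonster, H₂ = H₁.map (MulAut.conj g).toMonoidHom) ∧
    (∀ H : Subgroup Cfsg.Spor.BabyMonster, Nonempty (↥H ≃* Matrix.ProjectiveSpecialLinearGroup (Fin 2) F) →
      Subgroup.normalizer (H : Set Cfsg.Spor.BabyMonster) = H ∧ ∃ M : Subgroup Cfsg.Spor.BabyMonster, IsCoatom M ∧ Cfsg.Spor.IsoFi23 ↥M ∧ H ≤ M) := by
  refine ⟨⟨HB, iso_HB hF⟩, ?_, ?_⟩
  · rintro H₁ H₂ ⟨e₁⟩ ⟨e₂⟩
    obtain ⟨g₁, h₁⟩ := conj_HB hF e₁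
    obtain ⟨g₂, h₂⟩ := conj_HB hF e₂
    refine ⟨g₂⁻¹ * g₁, ?_⟩
    rw [map_conj_mul, h₁, ← h₂, map_conj_inv]
  · rintro H ⟨e⟩
    obtain ⟨g, hg⟩ := conj_HB hF e
    have hH : H = HB.map (MulAut.conj g⁻¹).toMonoidHom := by rw [← hg, map_conj_inv]
    constructor
    · rw [hH]
      conv_rhs => rw [← norm_HB]
      exact (Subgroup.map_equiv_normalizer_eq HB (MulAut.conj g⁻¹)).symm
    · obtain ⟨c, hc⟩ := HB_le
      refine ⟨(KB.map (MulAut.conj c).toMonoidHom).map (MulAut.conj g⁻¹).toMonoidHom, ?_, ?_, ?_⟩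
      · exact isCoatom_map (isCoatom_map (hco KB iso_KB cent_KB) c) g⁻¹
      · obtain ⟨f⟩ := iso_KB
        exact ⟨(((KB.equivMapOfInjective _ (MulAut.conj c).injective).trans
          ((KB.map (MulAut.conj c).toMonoidHom).equivMapOfInjective _ (MulAut.conj g⁻¹).injective)).symm).trans f⟩
      · rw [hH]
        exact Subgroup.map_mono hc

end Cfsg.Agent.H995.LB

private theorem dce_fa49e6c1e284 : _root_.True := by
  try have : _root_.True := by simp only [_root_.Cfsg.Agent.H995.LB.HB.eq_1]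
  exact _root_.True.intro
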